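import Mathlib.GroupTheory.Subgroup.Simple
import Mathlib.GroupTheory.OrderOfElement
import Mathlib.Tactic.Group

/-!
# Two general lemmas
-/

set_option autoImplicit false

namespace CfsgLib.Spor.MTwelveCent

open Subgroup

/-- A subgroup of a simple group containing a nontrivial class is the whole group. -/
theorem eq_top_of_class_le {G : Type*} [Group G] [IsSimpleGroup G] {x : G} (hx : x ≠ 1) {H : Subgroup G}
    (h : ∀ g : G, g * x * g⁻¹ ∈ H) : H = ⊤ := by
  set N := normalClosure ({x} : Set G)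
  have hN : N ≤ H := (closure_le H).2 fun y hy => by
    rw [Group.mem_conjugatesOfSet_iff] at hy
    obtain ⟨a, rfl, hy⟩ := hy
    obtain ⟨g, rfl⟩ := isConj_iff.1 hy
    exact h g
  rcases IsSimpleGroup.eq_bot_or_eq_top_of_normal N inferInstance with e | e
  · exact absurd (mem_bot.1 (e ▸ subset_normalClosure rfl : x ∈ (⊥ : Subgroup G))) hx
  · exact top_le_iff.1 (e ▸ hN)

/-- An involution with no fixed point on a finite group of odd order inverts it. -/
theorem inverts_of_fixed_trivial {G : Type*} [Group G] {N : Subgroup G} [Finite N] (hodd : Odd (Nat.card N))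
    {t : G} (ht : t * t = 1) (hN : ∀ x ∈ N, t * x * t ∈ N) (hfix : ∀ x ∈ N, t * x = x * t → x = 1) :
    ∀ x ∈ N, t * x * t = x⁻¹ := by
  let f : N → N := fun o => ⟨(o : G)⁻¹ * (t * o * t), mul_mem (inv_mem o.2) (hN o o.2)⟩
  have hf : Function.Injective f := by
    intro a b e
    have e' : (a : G)⁻¹ * (t * a * t) = (b : G)⁻¹ * (t * b * t) := congrArg Subtype.val e
    have key : t * ((b : G) * (a : G)⁻¹) = (b : G) * (a : G)⁻¹ * t := by
      have h1 : (b : G) * (a : G)⁻¹ * (t * a * t) = t * b * t := by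
        rw [mul_assoc, e', mul_inv_cancel_left]
      calc t * ((b : G) * (a : G)⁻¹) = t * b * (t * t) * (a : G)⁻¹ := by rw [ht]; group
        _ = (b : G) * (a : G)⁻¹ * (t * a * t) * (t * (a : G)⁻¹) := by rw [h1]; group
        _ = (b : G) * (a : G)⁻¹ * t * a * (t * t) * (a : G)⁻¹ := by group
        _ = _ := by rw [ht]; group
    have := hfix _ (mul_mem b.2 (inv_mem a.2)) key
    exact Subtype.ext (mul_inv_eq_one.1 this).symm
  intro x hx
  obtain ⟨o, ho⟩ := (Finite.injective_iff_surjective.1 hf) ⟨x, hx⟩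
  have e : (o : G)⁻¹ * (t * o * t) = x := congrArg Subtype.val ho
  rw [← e]
  calc t * ((o : G)⁻¹ * (t * o * t)) * t = t * (o : G)⁻¹ * t * o * (t * t) := by group
    _ = t * (o : G)⁻¹ * t * o := by rw [ht, mul_one]
    _ = _ := by rw [mul_inv_rev, mul_inv_rev, mul_inv_rev, inv_inv, inv_eq_of_mul_eq_one_right ht]; group

end CfsgLib.Spor.MTwelveCent
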