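import Cfsg.Agent.Lib.Spor.MTwelveCent.NormU
import Cfsg.Agent.Lib.Spor.MTwelveCent.Basics
import Cfsg.Agent.Lib.Invol.TwoClasses
import Cfsg.Agent.Lib.Invol.FourCentralizer

/-!
# The element of order three does not fix the normal elementary group
-/

set_option autoImplicit false
set_option linter.unusedSectionVars false
set_option maxRecDepth 100000

namespace CfsgLib.Spor.MTwelveCent

open Subgroup

theorem eList_facts : Closed eList ∧ eList.Nodup ∧ eList.length = 8 ∧ zC ∈ eList ∧ pC ∈ eList ∧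
    (∀ c ∈ eList, ∀ d ∈ eList, commC c d = true) ∧ (∀ c ∈ pList, c ∈ eList) ∧
    (∀ c ∈ eList, c = 0 ∨ c = zC ∨ c ∈ pList) ∧ (∀ k < 192, ∀ c ∈ eList, conjC k c ∈ eList) := by decide +kernel

theorem v_facts : vC ∈ rList ∧ (∀ c ∈ centList vC, c ∈ pList → c = pC ∨ c = mC zC pC) ∧
    (∃ k ∈ centList vC, conjC k pC = mC zC pC) ∧ commC pC vC = true ∧ mC zC pC ∈ centList vC ∧
    mC pC (mC zC pC) = zC ∧ 2 ∈ sList := by decide +kernel

namespace Model

variable {G : Type*} [Group G] [Finite G] {z : G} {ψ : ℕ → G} (M : Model z ψ)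
include M

/-- The normal elementary group. -/
def grpE : Subgroup G := M.sub eList eList_facts.1

theorem card_grpE : Nat.card M.grpE = 8 := by
  rw [grpE, M.card_sub _ _ eList_facts.2.1, eList_facts.2.2.1]

theorem caseB_false [IsSimpleGroup G] (hG : ¬ IsMulCommutative G) {w : G} (hw : CaseB z ψ w) : False := by
  classical
  obtain ⟨hEc, -, -, hzE, hpE, hEcomm, hPE, hEcases, hEnorm⟩ := eList_facts
  obtain ⟨hvR, hvP, ⟨kx, hkx, ekx⟩, hpv, hzpv, hprod, -⟩ := v_facts
  obtain ⟨wz, wE, ⟨r₁, hr₁, er₁⟩, r₂, hr₂, er₂⟩ := hw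
  have hvi := list_mem.2.2.1 _ hvR
  set E := M.grpE with hE
  set N := normalizer (E : Set G) with hN
  have inN : ∀ m : G, (∀ x ∈ E, m * x * m⁻¹ ∈ E) → m ∈ N := by
    intro m hm
    have hle : E.map (MulAut.conj m).toMonoidHom ≤ E := by
      rintro _ ⟨x, hx, rfl⟩; exact hm x hx
    have heq := eq_of_le_of_card_ge hle (by rw [card_map_of_injective (MulAut.conj m).injective])
    rw [hN, mem_normalizer_iff]
    intro x
    refine ⟨hm x, fun h => ?_⟩
    rw [← heq] at h
    obtain ⟨y, hy, e⟩ := h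
    have e' : m * y * m⁻¹ = m * x * m⁻¹ := e
    rwa [← mul_left_cancel (mul_right_cancel e')]
  have hwN : w ∈ N := inN w fun x ⟨c, hc, e⟩ => by
    obtain ⟨y, hy, ey⟩ := wE c hc
    exact ⟨y, hy, by rw [← ey, e]⟩
  have hCN : ∀ g : G, g * z = z * g → g ∈ N := fun g hg => by
    obtain ⟨k, hk, rfl⟩ := M.code_of_comm hg
    exact inN _ fun x ⟨c, hc, e⟩ => ⟨_, hEnorm k hk c hc, by rw [← e, ← M.conj hk (hEc.2 c hc).1]⟩
  have hp : IsConj z (ψ pC) := isConj_iff.2 ⟨w, wz⟩
  have s_not : ∀ c ∈ sList, ¬ IsConj z (ψ c) := fun c hc h => by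
    refine M.not_isConj_r hvR (h.trans ((M.isConj_s hc).symm.trans ((M.isConj_s hr₁).trans ?_)))
    rw [← er₁]; exact (isConj_iff.2 ⟨w, rfl⟩).symm
  -- conjugates of the involution commuting with it
  have inE : ∀ y, IsConj z y → y * z = z * y → y ∈ E := by
    intro y hy hyz
    have hy2 : y * y = 1 ∧ y ≠ 1 := by
      obtain ⟨g, rfl⟩ := isConj_iff.1 hy
      exact ⟨by rw [show g * z * g⁻¹ * (g * z * g⁻¹) = g * (z * z) * g⁻¹ by group, M.zz]; group,
        fun h => M.z_ne (conj_eq_one_iff.1 h)⟩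
    obtain ⟨c, hc, rfl⟩ := M.inv_code hyz hy2.1 hy2.2
    rcases list_mem.2.2.2.2 c hc with rfl | h | h | h
    · exact ⟨_, hzE, rfl⟩
    · exact ⟨_, hPE c h, rfl⟩
    · exact absurd hy (M.not_isConj_r h)
    · exact absurd hy (s_not c h)
  have trans : ∀ x ∈ E, IsConj z x → ∃ m ∈ N, m * z * m⁻¹ = x := by
    rintro _ ⟨c, hc, rfl⟩ hx
    rcases hEcases c hc with rfl | rfl | hP
    · rw [M.one] at hx
      obtain ⟨g, hg⟩ := isConj_iff.1 hx
      exact absurd (conj_eq_one_iff.1 hg) M.z_ne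
    · exact ⟨1, one_mem _, by rw [M.at_z]; group⟩
    · obtain ⟨k, hk, e⟩ := class_reps.1 c hP
      refine ⟨ψ k * w, mul_mem (hCN _ (M.comm_z hk)) hwN, ?_⟩
      calc ψ k * w * z * (ψ k * w)⁻¹ = ψ k * (w * z * w⁻¹) * (ψ k)⁻¹ := by group
        _ = _ := by rw [wz, M.conj hk (by norm_num), e]
  have block : ∀ x ∈ E, IsConj z x → ∀ y, y * x = x * y → (IsConj z y → y ∈ E) ∧ y ∈ N := by
    intro x hx hzx y hyx
    obtain ⟨m, hm, rfl⟩ := trans x hx hzx
    have hy' : m⁻¹ * y * m * z = z * (m⁻¹ * y * m) := by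
      calc m⁻¹ * y * m * z = m⁻¹ * (y * (m * z * m⁻¹)) * m := by group
        _ = m⁻¹ * (m * z * m⁻¹ * y) * m := by rw [hyx]
        _ = _ := by group
    refine ⟨fun hzy => ?_, ?_⟩
    · have hin := inE _ (hzy.trans (isConj_iff.2 ⟨m⁻¹, by group⟩)) hy'
      have := (mem_normalizer_iff.1 hm _).1 hin
      rwa [show m * (m⁻¹ * y * m) * m⁻¹ = y by group] at this
    · have := mul_mem (mul_mem hm (hCN _ hy')) (inv_mem hm)
      rwa [show m * (m⁻¹ * y * m) * m⁻¹ = y by group] at this
  -- the centralizer of the other involution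
  set v := ψ vC with hv
  have hcardv : Nat.card ↥(centralizer ({z} : Set G) ⊓ centralizer ({v} : Set G)) = 16 := by
    rw [M.card_centList hvi, ((centList_length vC hvi (by decide)).2.1).2 hvR]
  have hcardp : Nat.card ↥(centralizer ({ψ pC} : Set G) ⊓ centralizer ({v} : Set G)) = 8 := by
    have e : (centralizer ({z} : Set G) ⊓ centralizer ({ψ r₂} : Set G)).map (MulAut.conj w).toMonoidHom =
        centralizer ({ψ pC} : Set G) ⊓ centralizer ({v} : Set G) := by
      rw [Subgroup.map_inf _ _ _ (MulAut.conj w).injective, ← Invol.centralizer_conj, ← Invol.centralizer_conj, wz,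
        ← er₂]
      congr 4
      group
    rw [← e, card_map_of_injective (MulAut.conj w).injective, M.card_centList (list_mem.2.2.2.1 _ hr₂),
      ((centList_length r₂ (list_mem.2.2.2.1 _ hr₂) (by rintro rfl; revert hr₂; decide)).2.2).2 hr₂]
  have hiso : ∀ k : G, k * v = v * k → k * z * k⁻¹ * z = z * (k * z * k⁻¹) → k * z * k⁻¹ = z := by
    intro k hkv hcom
    have hy : IsConj z (k * z * k⁻¹) := isConj_iff.2 ⟨k, rfl⟩
    obtain ⟨c, hc, e⟩ := inE _ hy hcom
    have hck : Nat.card ↥(centralizer ({ψ c} : Set G) ⊓ centralizer ({v} : Set G)) = 16 := by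
      have e' : (centralizer ({z} : Set G) ⊓ centralizer ({v} : Set G)).map (MulAut.conj k).toMonoidHom =
          centralizer ({ψ c} : Set G) ⊓ centralizer ({v} : Set G) := by
        rw [Subgroup.map_inf _ _ _ (MulAut.conj k).injective, ← Invol.centralizer_conj, ← Invol.centralizer_conj, e,
          show k * v * k⁻¹ = v by rw [hkv]; group]
      rw [← e', card_map_of_injective (MulAut.conj k).injective, hcardv]
    rcases hEcases c hc with rfl | rfl | hP
    · rw [M.one] at e
      exact absurd (conj_eq_one_iff.1 e.symm) M.z_ne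
    · rw [← e, M.at_z]
    · exfalso
      have hcl := (hEc.2 c hc).1
      have hcv : c ∈ centList vC := by
        refine (centList_spec vC hvi c hcl).2 ((M.comm_iff hcl (by norm_num)).1 ?_)
        rw [e, ← hv]
        calc k * z * k⁻¹ * v = k * z * (k⁻¹ * v * k) * k⁻¹ := by group
          _ = k * z * v * k⁻¹ := by rw [show k⁻¹ * v * k = v by rw [mul_assoc, ← hkv]; group]
          _ = k * (v * z) * k⁻¹ := by rw [mul_assoc k, (M.comm_z (show vC < 192 by norm_num)).symm, ← hv]
          _ = k * v * k⁻¹ * (k * z * k⁻¹) := by group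
          _ = _ := by rw [hkv]; group
      rcases hvP c hcv hP with rfl | rfl
      · omega
      · have hkl := centList_lt vC hvi kx hkx
        have hkv' := (M.comm_iff hkl (by norm_num)).2 ((centList_spec vC hvi kx hkl).1 hkx)
        have e' : (centralizer ({ψ pC} : Set G) ⊓ centralizer ({v} : Set G)).map (MulAut.conj (ψ kx)).toMonoidHom =
            centralizer ({ψ (mC zC pC)} : Set G) ⊓ centralizer ({v} : Set G) := by
          rw [Subgroup.map_inf _ _ _ (MulAut.conj (ψ kx)).injective, ← Invol.centralizer_conj,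
            ← Invol.centralizer_conj, M.conj hkl (by norm_num), ekx,
            show ψ kx * v * (ψ kx)⁻¹ = v by rw [hv, hkv']; group]
        rw [← e', card_map_of_injective (MulAut.conj (ψ kx)).injective, hcardp] at hck
        omega
  -- it lies in the normalizer
  set K := centralizer ({v} : Set G) with hK
  have hzK : z ∈ K := mem_centralizer_singleton_iff.2 (M.comm_z (by norm_num)).symm
  have hzc : ∀ k ∈ K, k * z = z * k := by
    have hiso' : Cfsg.IsIsolatedInvolution (⟨z, hzK⟩ : K) := by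
      refine ⟨by rw [← Subgroup.orderOf_coe]; exact M.ord, fun k hk => Subtype.ext ?_⟩
      exact hiso k (mem_centralizer_singleton_iff.1 k.2) (congrArg Subtype.val hk.eq).symm
    have hz := CfsgLib.Invol.zstar hiso'
    have hnd : ¬ 2 ∣ Nat.card (Cfsg.pPrimeCore 2 K) := CfsgLib.Coprime.pPrimeCore_not_dvd (G := K) Nat.prime_two
    haveI : (Cfsg.pPrimeCore 2 K).Characteristic := CfsgLib.Coprime.pPrimeCore_characteristic 2
    set O := Cfsg.pPrimeCore 2 K
    have hodd : Odd (Nat.card O) := Nat.odd_iff.2 (by omega)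
    have hfix : ∀ (a : G), Nat.card ↥(centralizer ({a} : Set G) ⊓ K) ∣ 16 → ∀ x ∈ O,
        (x : G) * a = a * x → x = 1 := by
      intro a ha x hx hxa
      have h1 : orderOf (x : G) ∣ 16 :=
        (Subgroup.orderOf_dvd_natCard _ (mem_inf.2 ⟨mem_centralizer_singleton_iff.2 hxa, x.2⟩)).trans ha
      have h2 : orderOf (x : G) ∣ Nat.card O := by
        rw [Subgroup.orderOf_coe, ← Subgroup.orderOf_mk x hx]; exact orderOf_dvd_natCard _
      have hco : Nat.Coprime 16 (Nat.card O) :=
        Nat.Coprime.pow_left 4 ((Nat.prime_two.coprime_iff_not_dvd).2 hnd)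
      exact Subtype.ext (orderOf_eq_one_iff.1 (Nat.eq_one_of_dvd_coprimes hco h1 h2))
    have hinv : ∀ c, c ∈ [zC, pC, mC zC pC] → ∀ x ∈ O, ψ c * (x : G) * ψ c = (x : G)⁻¹ := by
      intro c hc x hx
      have hci : c ∈ invList ∧ c < 192 ∧ commC c vC = true := by
        revert c; decide +kernel
      have hcK : ψ c ∈ K := mem_centralizer_singleton_iff.2 ((M.comm_iff hci.2.1 (by norm_num)).2 hci.2.2)
      have hdvd : Nat.card ↥(centralizer ({ψ c} : Set G) ⊓ K) ∣ 16 := by
        rcases List.mem_cons.1 hc with rfl | hc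
        · rw [M.at_z, hK, hcardv]
        rcases List.mem_cons.1 hc with rfl | hc
        · rw [hK, hcardp]; norm_num
        obtain rfl := List.mem_singleton.1 hc
        have hkl := centList_lt vC hvi kx hkx
        have hkv' := (M.comm_iff hkl (by norm_num)).2 ((centList_spec vC hvi kx hkl).1 hkx)
        have e' : (centralizer ({ψ pC} : Set G) ⊓ centralizer ({v} : Set G)).map (MulAut.conj (ψ kx)).toMonoidHom =
            centralizer ({ψ (mC zC pC)} : Set G) ⊓ centralizer ({v} : Set G) := by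
          rw [Subgroup.map_inf _ _ _ (MulAut.conj (ψ kx)).injective, ← Invol.centralizer_conj,
            ← Invol.centralizer_conj, M.conj hkl (by norm_num), ekx,
            show ψ kx * v * (ψ kx)⁻¹ = v by rw [hv, hkv']; group]
        rw [hK, ← e', card_map_of_injective (MulAut.conj (ψ kx)).injective, hcardp]; norm_num
      have hsq : (⟨ψ c, hcK⟩ : K) * ⟨ψ c, hcK⟩ = 1 := Subtype.ext (M.code_ne hci.1).2
      have h := inverts_of_fixed_trivial (N := O) hodd hsq (fun y hy => by
          have := (inferInstance : O.Normal).conj_mem y hy ⟨ψ c, hcK⟩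
          rwa [inv_eq_of_mul_eq_one_right hsq] at this)
        (fun y hy e => hfix _ hdvd y hy (congrArg Subtype.val e).symm) x hx
      exact congrArg Subtype.val h
    have hbot : O = ⊥ := by
      refine (Subgroup.eq_bot_iff_forall _).2 fun x hx => ?_
      have hzx := hinv zC (by simp) x hx
      have hpx := hinv pC (by simp) x⁻¹ (inv_mem hx)
      have hzpx := hinv (mC zC pC) (by simp) x hx
      have hpp : ψ pC * ψ (mC zC pC) = z := by rw [M.mul pC (by norm_num) _ (mC_lt _ (by norm_num) _ (by norm_num)), hprod, M.at_z]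
      rw [M.at_z] at hzx
      have hcm : ψ pC * ψ (mC zC pC) = ψ (mC zC pC) * ψ pC :=
        (M.comm_iff (by norm_num) (mC_lt _ (by norm_num) _ (by norm_num))).2 (by decide +kernel)
      have e1 : z * (x : G) * z = (x : G) := by
        calc z * (x : G) * z = ψ pC * (ψ (mC zC pC) * (x : G) * ψ (mC zC pC)) * ψ pC := by
              calc z * (x : G) * z = ψ pC * ψ (mC zC pC) * (x : G) * (ψ (mC zC pC) * ψ pC) := by rw [← hcm, hpp]
                _ = _ := by group
          _ = ψ pC * ((x : G)⁻¹) * ψ pC := by rw [hzpx]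
          _ = _ := by rw [Subgroup.coe_inv] at hpx; rw [hpx, inv_inv]
      refine hfix z (by rw [hK, hcardv]) x hx ?_
      rw [mul_assoc] at e1
      calc (x : G) * z = z * (z * ((x : G) * z)) := by rw [← mul_assoc z z, M.zz, one_mul]
        _ = _ := by rw [e1]
    intro k hk
    have h := hz ⟨k, hk⟩
    change _ ∈ O at h
    rw [hbot, mem_bot, mul_inv_eq_one] at h
    have h' : z * k * z⁻¹ = k := congrArg Subtype.val h
    exact (mul_inv_eq_iff_eq_mul.1 h').symm
  have hKN : ∀ k ∈ K, k ∈ N := fun k hk => hCN k (hzc k hk)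
  have rsN : ∀ c ∈ invList, c ∈ rList ∨ c ∈ sList → ∀ y, y * ψ c = ψ c * y → y ∈ N := by
    have pull : ∀ (m : G), m ∈ N → ∀ y, y * (m * v * m⁻¹) = m * v * m⁻¹ * y → y ∈ N := by
      intro m hm y hy
      have h' : m⁻¹ * y * m ∈ K := mem_centralizer_singleton_iff.2 (by
        calc m⁻¹ * y * m * v = m⁻¹ * (y * (m * v * m⁻¹)) * m := by group
          _ = m⁻¹ * (m * v * m⁻¹ * y) * m := by rw [hy]
          _ = _ := by group)
      have := mul_mem (mul_mem hm (hKN _ h')) (inv_mem hm)
      rwa [show m * (m⁻¹ * y * m) * m⁻¹ = y by group] at this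
    rintro c hci (hc | hc) y hy
    · obtain ⟨k, hk, e⟩ := class_reps.2.1 c hc
      exact pull _ (hCN _ (M.comm_z hk)) y (by rwa [hv, M.conj hk (by norm_num), e])
    · obtain ⟨k, hk, e⟩ := class_reps.2.2.1 c hc
      obtain ⟨k', hk', e'⟩ := class_reps.2.2.1 r₁ hr₁
      refine pull (ψ k * (ψ k')⁻¹ * w) (mul_mem (mul_mem (hCN _ (M.comm_z hk)) (inv_mem (hCN _ (M.comm_z hk')))) hwN) y ?_
      have eq : ψ k * (ψ k')⁻¹ * w * v * (ψ k * (ψ k')⁻¹ * w)⁻¹ = ψ c := by
        calc ψ k * (ψ k')⁻¹ * w * v * (ψ k * (ψ k')⁻¹ * w)⁻¹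
            = ψ k * ((ψ k')⁻¹ * (w * v * w⁻¹) * ψ k') * (ψ k)⁻¹ := by group
          _ = ψ k * ψ 2 * (ψ k)⁻¹ := by
            rw [hv, er₁, ← e', ← M.conj hk' (by norm_num)]; group
          _ = _ := by rw [M.conj hk (by norm_num), e]
      rwa [eq]
  have hall : ∀ g : G, g * v * g⁻¹ ∈ N := by
    intro g
    set s := g * v * g⁻¹ with hs
    have hvs : IsConj v s := isConj_iff.2 ⟨g, rfl⟩
    have hv2 : orderOf v = 2 := orderOf_eq_prime (by rw [sq]; exact (M.code_ne hvi).2) (M.code_ne hvi).1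
    have hs2 : orderOf s = 2 := by rw [hs]; exact Invol.invol_conj hv2 g
    have hns : ¬ IsConj z s := fun h => M.not_isConj_r hvR (h.trans hvs.symm)
    obtain ⟨i, hi2, hiz, his⟩ := Invol.exists_invol_commute_both M.ord hs2 hns
    obtain ⟨c, hc, rfl⟩ := M.inv_code hiz.eq (Invol.invol_mul_self hi2) (Invol.invol_ne_one hi2)
    rcases list_mem.2.2.2.2 c hc with rfl | h | h | h
    · exact hCN s (M.at_z ▸ his.eq.symm)
    · exact (block _ ⟨c, hPE c h, rfl⟩ (hp.trans (M.isConj_p h)) s his.eq.symm).2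
    · exact rsN c hc (Or.inl h) s his.eq.symm
    · exact rsN c hc (Or.inr h) s his.eq.symm
  have htop : N = ⊤ := eq_top_of_class_le (M.code_ne hvi).1 hall
  haveI : E.Normal := normalizer_eq_top_iff.1 htop
  rcases IsSimpleGroup.eq_bot_or_eq_top_of_normal E inferInstance with h | h
  · have := M.card_grpE
    rw [← hE, h, Subgroup.card_bot] at this
    norm_num at this
  · refine hG ⟨⟨fun a b => ?_⟩⟩
    obtain ⟨c, hc, rfl⟩ : a ∈ M.grpE := hE ▸ h ▸ mem_top a
    obtain ⟨d, hd, rfl⟩ : b ∈ M.grpE := hE ▸ h ▸ mem_top b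
    exact (M.comm_iff (hEc.2 c hc).1 (hEc.2 d hd).1).2 (hEcomm c hc d hd)

end Model

end CfsgLib.Spor.MTwelveCent
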