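import Cfsg.Agent.Lib.Spor.MTwelveCent.Extra
import Cfsg.Agent.Lib.Spor.MTwelveCent.CaseBFalse
import Cfsg.Agent.Lib.Spor.MTwelveCent.Cert.All
import Cfsg.Agent.Lib.Spor.TC.Word

/-!
# The isomorphism with the Mathieu group of degree twelve
-/

set_option autoImplicit false
set_option linter.unusedSectionVars false
set_option maxRecDepth 100000

namespace CfsgLib.Spor.MTwelveCent

open Cfsg Subgroup CfsgLib.Spor.TC

/-- The code of a word in the letters of the centralizer. -/
noncomputable def foldC (l : List ℕ) : ℕ := l.foldl (fun c i => mC c (lCodes.getD i 0)) 0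

/-- Words for the element of order three and its inverse. -/
def wWord : List ℕ := wordOf sC ++ [5]

/-- The inverse word. -/
def wiWord : List ℕ := 5 :: wordOf sC

/-- Delete two equal adjacent letters, from the right. -/
def freeRed : List ℕ → List ℕ
  | [] => []
  | a :: l =>
    match freeRed l with
    | [] => [a]
    | b :: l' => if a = b then l' else a :: b :: l'

/-- Strip equal letters at both ends. -/
def cycRed : ℕ → List ℕ → List ℕ
  | 0, l => l
  | n + 1, l =>
    match l with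
    | a :: b :: l' => if (b :: l').getLast? = some a then cycRed n (b :: l').dropLast else a :: b :: l'
    | l => l

/-- The relations known in both groups. -/
def rawRels : List (List ℕ) :=
  [[]] ++ centRels ++ [powWord wWord 3] ++
    selU.map (fun x => wWord ++ wordOf x ++ wiWord ++ (wordOf (tabA.getD x 0)).reverse) ++
    [6 :: wordOf vC ++ 6 :: wordOf vC, 6 :: wordOf sC ++ 6 :: wordOf sC,
      6 :: wordOf kC ++ 6 :: (wordOf kC).reverse] ++
    (List.range 12).map (fun i =>
      powWord (6 :: wordOf (sigPairs.getD i (0, 0)).1 ++ powWord wWord (sigPairs.getD i (0, 0)).2) (sigY.getD i 0))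

/-- The codes whose words occur. -/
def usedCodes : List ℕ :=
  [sC, vC, kC] ++ selU ++ selU.map (fun x => tabA.getD x 0) ++ sigPairs.map Prod.fst

theorem rels_covered : (fullRels.all fun r => rawRels.any fun q => cycRed 200 (freeRed q) == r) = true := by
  decide +kernel

theorem words_ok : (∀ c ∈ usedCodes, foldC (wordOf c) = c ∧ ∀ i ∈ wordOf c, i < 5) ∧
    (∀ r ∈ centRels, foldC r = 0 ∧ ∀ i ∈ r, i < 5) ∧ (∀ x ∈ selU, x ∈ uList ∧ tabA.getD x 0 < 192) ∧
    (∀ i < 5, lCodes.getD i 0 < 192 ∧ mC (lCodes.getD i 0) (lCodes.getD i 0) = 0) := by decide +kernel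

theorem gCodes_words : foldC [0, 2] = 1 ∧ foldC [1, 4, 2, 3, 4] = 2 ∧ foldC [0, 3, 0, 1] = 3 ∧
    gCodes = [1, 2, 3] ∧ sC < 192 ∧ kC < 192 ∧ vC < 192 := by decide +kernel

theorem reach_facts : (148 : ℕ) ∈ uList ∧ conjC 2 pC = 148 ∧ tabA.getD 148 0 < 192 ∧
    ∀ c ∈ invList, ∃ k < 192, conjC k zC = c ∨ conjC k pC = c ∨ conjC k (tabA.getD 148 0) = c ∨ conjC k vC = c := by
  decide +kernel

theorem comm_false : commC 1 2 = false := by decide +kernel

section Red

variable {G : Type*} [Group G] {g : ℕ → G} (hg : ∀ x, g x * g x = 1)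
include hg

theorem ev_freeRed : ∀ l, ev g (freeRed l) = ev g l := by
  intro l
  induction l with
  | nil => rfl
  | cons a l ih =>
    rw [freeRed, ev_cons g a l, ← ih]
    split
    next he => rw [he]; rfl
    next b l' he =>
      rw [he]
      split
      next hab => rw [hab, ev_cons, ← mul_assoc, hg, one_mul]
      next => rw [ev_cons]

theorem ev_cycRed : ∀ n l, ev g (cycRed n l) = 1 ↔ ev g l = 1 := by
  intro n
  induction n with
  | zero => exact fun l => Iff.rfl
  | succ n ih =>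
    intro l
    rcases l with - | ⟨a, - | ⟨b, l'⟩⟩
    · exact Iff.rfl
    · exact Iff.rfl
    rw [cycRed]
    split
    next h =>
      have e : b :: l' = (b :: l').dropLast ++ [a] := by
        rw [List.getLast?_eq_getLast_of_ne_nil (List.cons_ne_nil _ _), Option.some_inj] at h
        conv_lhs => rw [← List.dropLast_append_getLast (List.cons_ne_nil b l'), h]
      rw [ih]
      conv_rhs => rw [ev_cons, e, ev_append, show ev g [a] = g a by simp [ev]]
      constructor
      · intro h1; rw [h1, one_mul, hg]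
      · intro h1
        calc ev g (b :: l').dropLast = g a * g a * ev g (b :: l').dropLast * (g a * g a) := by rw [hg]; group
          _ = g a * (g a * (ev g (b :: l').dropLast * g a)) * g a := by group
          _ = 1 := by rw [h1, mul_one, hg]
    next => exact Iff.rfl

theorem ev_reverse' : ∀ l, ev g l.reverse = (ev g l)⁻¹ := by
  intro l
  induction l with
  | nil => simp [ev]
  | cons a l ih =>
    rw [List.reverse_cons, ev_append, ih, show ev g [a] = g a by simp [ev], ev_cons, mul_inv_rev,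
      inv_eq_of_mul_eq_one_right (hg a)]

end Red

/-- The letters. -/
def genLetters {G : Type*} [Group G] (ψ : ℕ → G) (w y : G) (i : ℕ) : G :=
  if i < 5 then ψ (lCodes.getD i 0) else if i = 5 then ψ sC * w else if i = 6 then y else 1

namespace CaseA

variable {G : Type*} [Group G] [Finite G] {z : G} {ψ : ℕ → G} {w y : G} (D : CaseA z ψ w) (X : Extra z ψ w y)
include D

theorem ss : ψ sC * ψ sC = 1 := by
  obtain ⟨-, -, -, -, hs, -, -⟩ := gCodes_words
  rw [D.model.mul _ hs _ hs, (by decide +kernel : mC sC sC = 0), D.model.one]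

theorem ev_letters : ∀ l : List ℕ, (∀ i ∈ l, i < 5) → ∀ c < 192,
    ψ c * ev (genLetters ψ w y) l = ψ (l.foldl (fun c i => mC c (lCodes.getD i 0)) c) ∧
      l.foldl (fun c i => mC c (lCodes.getD i 0)) c < 192 := by
  intro l
  induction l with
  | nil => exact fun _ c hc => ⟨by simp [ev], hc⟩
  | cons i l ih =>
    intro hl c hc
    have hi := hl i List.mem_cons_self
    have hci := (words_ok.2.2.2 i hi).1
    obtain ⟨h1, h2⟩ := ih (fun j hj => hl j (List.mem_cons_of_mem _ hj)) _ (mC_lt c hc _ hci)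
    refine ⟨?_, h2⟩
    rw [ev_cons, ← mul_assoc, List.foldl_cons, ← h1]
    simp only [genLetters, if_pos hi]
    rw [D.model.mul c hc _ hci]

theorem ev_code {l : List ℕ} (hl : ∀ i ∈ l, i < 5) : ev (genLetters ψ w y) l = ψ (foldC l) := by
  have h := (D.ev_letters (y := y) l hl 0 (by norm_num)).1
  rwa [D.model.one, one_mul] at h

theorem ev_wordOf {c : ℕ} (hc : c ∈ usedCodes) : ev (genLetters ψ w y) (wordOf c) = ψ c := by
  obtain ⟨h1, h2⟩ := words_ok.1 c hc
  rw [D.ev_code h2, h1]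

include X

theorem letters_sq (i : ℕ) : genLetters ψ w y i * genLetters ψ w y i = 1 := by
  simp only [genLetters]
  split_ifs with h1 h2 h3
  · obtain ⟨hl, h0⟩ := words_ok.2.2.2 i h1
    rw [D.model.mul _ hl _ hl, h0, D.model.one]
  · have h := D.flip
    rw [inv_eq_of_mul_eq_one_right D.ss] at h
    calc ψ sC * w * (ψ sC * w) = ψ sC * w * ψ sC * w := by group
      _ = _ := by rw [h, inv_mul_cancel]
  · exact X.sq
  · exact one_mul 1

theorem rels_hold : ∀ r ∈ fullRels, ev (genLetters ψ w y) r = 1 := by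
  intro r hr
  have sq := D.letters_sq X
  obtain ⟨q, hq, e⟩ := List.any_eq_true.1 (List.all_eq_true.1 rels_covered r hr)
  rw [← beq_iff_eq.1 e, ev_cycRed sq, ev_freeRed sq]
  have e5 : genLetters ψ w y 5 = ψ sC * w := rfl
  have e6 : ∀ l, ev (genLetters ψ w y) (6 :: l) = y * ev (genLetters ψ w y) l := fun l => ev_cons _ 6 l
  have hsU : sC ∈ usedCodes := by simp [usedCodes]
  have hvU : vC ∈ usedCodes := by simp [usedCodes]
  have hkU : kC ∈ usedCodes := by simp [usedCodes]
  have eW : ev (genLetters ψ w y) wWord = w := by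
    rw [wWord, ev_append, D.ev_wordOf hsU, show ev (genLetters ψ w y) [5] = ψ sC * w by simp [ev, e5],
      ← mul_assoc, D.ss, one_mul]
  have eWi : ev (genLetters ψ w y) wiWord = w⁻¹ := by
    have h := D.flip
    rw [inv_eq_of_mul_eq_one_right D.ss] at h
    rw [wiWord, ev_cons, D.ev_wordOf hsU, e5, h]
  simp only [rawRels, List.mem_append, List.mem_map, List.mem_singleton, List.mem_cons, List.not_mem_nil,
    or_false, List.mem_range] at hq
  rcases hq with ((((rfl | hq) | rfl) | ⟨x, hx, rfl⟩) | rfl | rfl | rfl) | ⟨i, hi, rfl⟩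
  · rfl
  · obtain ⟨h0, hl⟩ := words_ok.2.1 q hq
    rw [D.ev_code hl, h0, D.model.one]
  · rw [ev_powWord, eW, pow_succ, pow_two, D.cube]
  · obtain ⟨hxu, -⟩ := words_ok.2.2.1 x hx
    have m1 : x ∈ usedCodes := by simp [usedCodes, hx]
    have m2 : tabA.getD x 0 ∈ usedCodes := List.mem_append_left _ (List.mem_append_right _ (List.mem_map.2 ⟨x, hx, rfl⟩))
    rw [ev_append, ev_append, ev_append, ev_reverse' sq, eW, eWi, D.ev_wordOf m1, D.ev_wordOf m2, D.act x hxu,
      mul_inv_cancel]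
  · rw [ev_append, e6, D.ev_wordOf hvU]
    calc y * ψ vC * (y * ψ vC) = y * (ψ vC * y) * ψ vC := by group
      _ = y * (y * ψ vC) * ψ vC := by rw [X.comm_v]
      _ = y * y * (ψ vC * ψ vC) := by group
      _ = 1 := by rw [X.sq, D.model.mul _ (by norm_num) _ (by norm_num), (by decide +kernel : mC vC vC = 0),
          D.model.one, one_mul]
  · rw [ev_append, e6, D.ev_wordOf hsU]
    calc y * ψ sC * (y * ψ sC) = y * (ψ sC * y) * ψ sC := by group
      _ = y * (y * ψ sC) * ψ sC := by rw [X.comm_t]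
      _ = y * y * (ψ sC * ψ sC) := by group
      _ = 1 := by rw [X.sq, D.ss, one_mul]
  · rw [ev_append, e6, e6, ev_reverse' sq, D.ev_wordOf hkU]
    calc y * ψ kC * (y * (ψ kC)⁻¹) = y * (ψ kC * y) * (ψ kC)⁻¹ := by group
      _ = y * (y * ψ kC) * (ψ kC)⁻¹ := by rw [X.comm_k]
      _ = y * y := by group
      _ = 1 := X.sq
  · have m : (sigPairs.getD i (0, 0)).1 ∈ usedCodes := by
      refine List.mem_append_right _ (List.mem_map.2 ⟨sigPairs.getD i (0, 0), ?_, rfl⟩)
      rw [List.getD_eq_getElem _ _ (by exact hi)]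
      exact List.getElem_mem _
    rw [ev_powWord, ev_append, e6, D.ev_wordOf m, ev_powWord, eW, mul_assoc]
    exact X.powers i hi

theorem eq_top {H : Subgroup G} (hH : ∀ i < 7, genLetters ψ w y i ∈ H) : H = ⊤ := by
  have M := D.model
  obtain ⟨g1, g2, g3, hgC, hs, -, hv⟩ := gCodes_words
  have hg : ∀ g ∈ gCodes, ψ g ∈ H := by
    have hw : ∀ l : List ℕ, (∀ i ∈ l, i < 5) → ψ (foldC l) ∈ H := fun l hl => by
      rw [← D.ev_code (y := y) hl]
      exact ev_mem fun i hi => hH i (by have := hl i hi; omega)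
    rw [hgC]
    simp only [List.mem_cons, List.not_mem_nil, or_false]
    rintro g (rfl | rfl | rfl)
    · exact g1 ▸ hw _ (by decide)
    · exact g2 ▸ hw _ (by decide)
    · exact g3 ▸ hw _ (by decide)
  have hC : ∀ d < 192, ψ d ∈ H := by
    intro d
    induction d using Nat.strong_induction_on with
    | _ d ih =>
      intro hd
      rcases eq_or_ne d 0 with rfl | hd0
      · rw [M.one]; exact one_mem H
      obtain ⟨g, hgm, hlt, e⟩ := gen_reach d hd hd0
      rw [← e, ← M.mul _ (by omega) g (gCodes_lt g hgm)]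
      exact mul_mem (ih _ hlt (by omega)) (hg g hgm)
  have hw : w ∈ H := by
    have h := mul_mem (hC _ hs) (hH 5 (by norm_num))
    rwa [show genLetters ψ w y 5 = ψ sC * w from rfl, ← mul_assoc, D.ss, one_mul] at h
  have hy : y ∈ H := hH 6 (by norm_num)
  have hcz : ∀ x : G, x * z = z * x → x ∈ H := fun x hx => by
    obtain ⟨c, hc, rfl⟩ := M.code_of_comm hx; exact hC c hc
  have hcv : ∀ x : G, x * ψ vC = ψ vC * x → x ∈ H := X.gen H hC hw hy
  have good : ∀ {a b g : G}, g ∈ H → g * a * g⁻¹ = b → (∀ x, x * a = a * x → x ∈ H) → ∀ x, x * b = b * x → x ∈ H := by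
    intro a b g hg hab ha x hx
    have h : g⁻¹ * x * g ∈ H := ha _ (by
      subst hab
      calc g⁻¹ * x * g * a = g⁻¹ * (x * (g * a * g⁻¹)) * g := by group
        _ = g⁻¹ * (g * a * g⁻¹ * x) * g := by rw [hx]
        _ = _ := by group)
    have h' := mul_mem (mul_mem hg h) (inv_mem hg)
    rwa [show g * (g⁻¹ * x * g) * g⁻¹ = x by group] at h'
  obtain ⟨r1, r2, r3, hreach⟩ := reach_facts
  have hcp : ∀ x : G, x * ψ pC = ψ pC * x → x ∈ H := good (g := w⁻¹) (inv_mem hw)
    (by rw [← D.w_p]; group) hcz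
  have hc148 : ∀ x : G, x * ψ 148 = ψ 148 * x → x ∈ H := good (hC 2 (by norm_num))
    (by rw [M.conj (by norm_num) (by norm_num), r2]) hcp
  have hct : ∀ x : G, x * ψ (tabA.getD 148 0) = ψ (tabA.getD 148 0) * x → x ∈ H := good hw (D.act _ r1) hc148
  have hinv : ∀ c ∈ invList, ∀ x : G, x * ψ c = ψ c * x → x ∈ H := by
    intro c hc
    obtain ⟨k, hk, h | h | h | h⟩ := hreach c hc
    · exact good (hC k hk) (by rw [← M.at_z, M.conj hk (by norm_num), h]) hcz
    · exact good (hC k hk) (by rw [M.conj hk (by norm_num), h]) hcp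
    · exact good (hC k hk) (by rw [M.conj hk r3, h]) hct
    · exact good (hC k hk) (by rw [M.conj hk hv, h]) hcv
  have hvi : vC ∈ invList := by decide +kernel
  obtain ⟨hv1, hv2⟩ := M.code_ne hvi
  have hvo : orderOf (ψ vC) = 2 := Invol.invol_iff.2 ⟨hv2, hv1⟩
  have hvG : ∀ g : G, g * ψ vC * g⁻¹ ∈ H := fun g => by
    set s := g * ψ vC * g⁻¹ with hsdef
    have hso : orderOf s = 2 := Invol.invol_conj hvo g
    have heven : Even (orderOf (z * s)) := by
      by_contra h
      refine D.v_not ((Invol.isConj_of_odd M.ord hso (Nat.not_even_iff_odd.1 h)).trans ?_)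
      exact (isConj_iff.2 ⟨g, hsdef.symm⟩).symm
    set u := (z * s) ^ (orderOf (z * s) / 2) with hu
    have hzs : (z * s)⁻¹ = s * z := by rw [mul_inv_rev, Invol.invol_inv M.ord, Invol.invol_inv hso]
    have hzu : Commute z u := (Invol.commute_pow_half (x := z) (by
      rw [hzs, Invol.invol_inv M.ord, ← mul_assoc, M.zz, one_mul]) heven).symm
    have hsu : Commute s u := (Invol.commute_pow_half (x := s) (by
      rw [hzs, Invol.invol_inv hso, mul_assoc s, mul_assoc z, Invol.invol_mul_self hso, mul_one]) heven).symm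
    have huo : orderOf u = 2 := Invol.orderOf_pow_half heven
    obtain ⟨c, hc, e⟩ := M.inv_code hzu.eq.symm (Invol.invol_mul_self huo) (Invol.invol_ne_one huo)
    exact hinv c hc s (e ▸ hsu.eq)
  -- the centralizers of all its involutions lie in it
  have hcH : ∀ r ∈ H, r * r = 1 → r ≠ 1 → ∀ x : G, x * r = r * x → x ∈ H := by
    intro r hr hr2 hr1
    haveI : Fact (Nat.Prime 2) := ⟨Nat.prime_two⟩
    obtain ⟨P, hP⟩ := M.exists_sylow
    have hPH : (P : Subgroup G) ≤ H := by
      rw [hP]; rintro _ ⟨c, hc, rfl⟩; exact hC c (tList_facts.2.2.2.2 c hc)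
    have hr' : IsPGroup 2 (zpowers (⟨r, hr⟩ : H)) := IsPGroup.of_card (n := 1) (by
      rw [Nat.card_zpowers, pow_one, orderOf_eq_prime (p := 2) (Subtype.ext (by simp [pow_two, hr2]))
        (fun e => hr1 (congrArg Subtype.val e))])
    obtain ⟨Q, hQ⟩ := hr'.exists_le_sylow
    obtain ⟨h, hh⟩ := MulAction.exists_smul_eq H Q (P.subtype hPH)
    have hm : (h : G) * r * (h : G)⁻¹ ∈ M.grpT := by
      have h' : h * ⟨r, hr⟩ * h⁻¹ ∈ ((P.subtype hPH : Sylow 2 H) : Subgroup H) := by
        rw [← hh, Sylow.coe_subgroup_smul]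
        exact ⟨⟨r, hr⟩, hQ (mem_zpowers _), rfl⟩
      rw [Sylow.coe_subtype, mem_subgroupOf, hP] at h'
      exact h'
    obtain ⟨c, hc, e⟩ := M.inv_code (mem_centralizer_singleton_iff.1 (M.grpT_le hm))
      (by rw [show (h : G) * r * (h : G)⁻¹ * ((h : G) * r * (h : G)⁻¹) = h * (r * r) * (h : G)⁻¹ by group, hr2]; group)
      (fun h' => hr1 (conj_eq_one_iff.1 h'))
    exact good (g := (h : G)⁻¹) (inv_mem h.2) (by rw [e]; group) (hinv c hc)
  -- all conjugates of the central involution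
  rw [eq_top_iff]
  intro g _
  set r := g * z * g⁻¹ with hrdef
  have hro : orderOf r = 2 := Invol.invol_conj M.ord g
  have hnc : ¬ IsConj (ψ vC) r := fun h => D.v_not ((isConj_iff.2 ⟨g, rfl⟩ : IsConj z r).trans h.symm)
  obtain ⟨i, hi2, hiv, hir⟩ := Invol.exists_invol_commute_both hvo hro hnc
  have hiH : i ∈ H := hcv i hiv.eq
  have hrH : r ∈ H := hcH i hiH (Invol.invol_mul_self hi2) (Invol.invol_ne_one hi2) r hir.eq.symm
  obtain ⟨P, hP⟩ := M.exists_sylow
  have hto : ∃ m ∈ H, m * z * m⁻¹ = r := by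
    haveI : Fact (Nat.Prime 2) := ⟨Nat.prime_two⟩
    have hPH : (P : Subgroup G) ≤ H := by
      rw [hP]; rintro _ ⟨c, hc, rfl⟩; exact hC c (tList_facts.2.2.2.2 c hc)
    have hr' : IsPGroup 2 (zpowers (⟨r, hrH⟩ : H)) := IsPGroup.of_card (n := 1) (by
      rw [Nat.card_zpowers, pow_one, orderOf_eq_prime (p := 2) (Subtype.ext (by simp [pow_two, Invol.invol_mul_self hro]))
        (fun e => Invol.invol_ne_one hro (congrArg Subtype.val e))])
    obtain ⟨Q, hQ⟩ := hr'.exists_le_sylow
    obtain ⟨h, hh⟩ := MulAction.exists_smul_eq H Q (P.subtype hPH)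
    have hm : (h : G) * r * (h : G)⁻¹ ∈ M.grpT := by
      have h' : h * ⟨r, hrH⟩ * h⁻¹ ∈ ((P.subtype hPH : Sylow 2 H) : Subgroup H) := by
        rw [← hh, Sylow.coe_subgroup_smul]
        exact ⟨⟨r, hrH⟩, hQ (mem_zpowers _), rfl⟩
      rw [Sylow.coe_subtype, mem_subgroupOf, hP] at h'
      exact h'
    obtain ⟨c, hc, e⟩ := M.inv_code (mem_centralizer_singleton_iff.1 (M.grpT_le hm))
      (Invol.invol_mul_self (Invol.invol_conj hro h)) (Invol.invol_ne_one (Invol.invol_conj hro h))
    obtain ⟨k, hk, hcase⟩ := hreach c hc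
    suffices hk' : ∃ a ∈ H, a * z * a⁻¹ = ψ c by
      obtain ⟨a, ha, ea⟩ := hk'
      refine ⟨(h : G)⁻¹ * a, mul_mem (inv_mem h.2) ha, ?_⟩
      rw [show (h : G)⁻¹ * a * z * ((h : G)⁻¹ * a)⁻¹ = (h : G)⁻¹ * (a * z * a⁻¹) * h by group, ea, e]
      group
    have hp : w⁻¹ * z * w⁻¹⁻¹ = ψ pC := by rw [← D.w_p]; group
    have h148 : ψ 2 * w⁻¹ * z * (ψ 2 * w⁻¹)⁻¹ = ψ 148 := by
      rw [show ψ 2 * w⁻¹ * z * (ψ 2 * w⁻¹)⁻¹ = ψ 2 * (w⁻¹ * z * w⁻¹⁻¹) * (ψ 2)⁻¹ by group, hp,
        M.conj (by norm_num) (by norm_num), r2]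
    have ht : w * (ψ 2 * w⁻¹) * z * (w * (ψ 2 * w⁻¹))⁻¹ = ψ (tabA.getD 148 0) := by
      rw [show w * (ψ 2 * w⁻¹) * z * (w * (ψ 2 * w⁻¹))⁻¹ = w * (ψ 2 * w⁻¹ * z * (ψ 2 * w⁻¹)⁻¹) * w⁻¹ by group,
        h148, D.act _ r1]
    rcases hcase with h' | h' | h' | h'
    · exact ⟨ψ k, hC k hk, by rw [← M.at_z, M.conj hk (by norm_num), h']⟩
    · refine ⟨ψ k * w⁻¹, mul_mem (hC k hk) (inv_mem hw), ?_⟩
      rw [show ψ k * w⁻¹ * z * (ψ k * w⁻¹)⁻¹ = ψ k * (w⁻¹ * z * w⁻¹⁻¹) * (ψ k)⁻¹ by group, hp,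
        M.conj hk (by norm_num), h']
    · refine ⟨ψ k * (w * (ψ 2 * w⁻¹)), mul_mem (hC k hk) (mul_mem hw (mul_mem (hC 2 (by norm_num)) (inv_mem hw))), ?_⟩
      rw [show ψ k * (w * (ψ 2 * w⁻¹)) * z * (ψ k * (w * (ψ 2 * w⁻¹)))⁻¹ =
        ψ k * (w * (ψ 2 * w⁻¹) * z * (w * (ψ 2 * w⁻¹))⁻¹) * (ψ k)⁻¹ by group, ht, M.conj hk r3, h']
    · exfalso
      refine D.v_not (((isConj_iff.2 ⟨g, rfl⟩ : IsConj z r).trans
        ((isConj_iff.2 ⟨(h : G), rfl⟩ : IsConj r ((h : G) * r * (h : G)⁻¹)).trans ?_)))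
      rw [← e]
      exact (M.isConj_of hk hv h').symm
  obtain ⟨m, hm, em⟩ := hto
  have hx : (m⁻¹ * g) * z = z * (m⁻¹ * g) := by
    calc m⁻¹ * g * z = m⁻¹ * (g * z * g⁻¹) * g := by group
      _ = m⁻¹ * (m * z * m⁻¹) * g := by rw [em]
      _ = _ := by group
  have := mul_mem hm (hcz _ hx)
  rwa [mul_inv_cancel_left] at this

end CaseA

/-- A simple group with such a centralizer has the whole configuration. -/
theorem exists_data {G : Type*} [Group G] [Finite G] [IsSimpleGroup G] (hG : ¬ IsMulCommutative G) {z : G}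
    {ψ : ℕ → G} (M : Model z ψ) : ∃ ψ' : ℕ → G, ∃ w y, CaseA z ψ' w ∧ Extra z ψ' w y := by
  rcases M.exists_case (M.isConj_pC hG) with ⟨w, hw⟩ | ⟨ψ', w, D⟩
  · exact (M.caseB_false hG hw).elim
  · obtain ⟨y, X⟩ := D.exists_extra
    exact ⟨ψ', w, y, D, X⟩

theorem not_commutative_mTwelve : ¬ IsMulCommutative ↥Spor.M12 := by
  intro h
  have e := (mTwelveModel.comm_iff (c := 1) (d := 2) (by norm_num) (by norm_num)).1 (h.is_comm.comm _ _)
  rw [comm_false] at e
  exact Bool.false_ne_true e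

/-- A finite group with the first configuration is the Mathieu group. -/
theorem isoM12_of_caseA {G : Type*} [Group G] [Finite G] {z : G} {ψ : ℕ → G} {w : G} (D₀ : CaseA z ψ w) :
    Nonempty (G ≃* ↥Spor.M12) := by
  obtain ⟨y, X⟩ := D₀.exists_extra
  have D := D₀
  have M := D.model
  haveI := isSimpleGroup_mTwelve
  obtain ⟨β, a', b', D', X'⟩ := exists_data not_commutative_mTwelve mTwelveModel
  set α := ψ
  set a := w
  set b := y
  set P : ℕ → G × ↥Spor.M12 := fun i => (genLetters α a b i, genLetters β a' b' i) with hP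
  set K : Subgroup (G × ↥Spor.M12) := closure (P '' Set.Iio 7) with hK
  set g : ℕ → K := fun i => if h : i < 7 then ⟨P i, subset_closure ⟨i, h, rfl⟩⟩ else 1 with hgdef
  have hgval : ∀ i, (g i : G × ↥Spor.M12) = P i := by
    intro i
    simp only [g]
    split_ifs with h
    · rfl
    · simp only [P, genLetters, if_neg (show ¬ i < 5 by omega), if_neg (show i ≠ 5 by omega),
        if_neg (show i ≠ 6 by omega)]
      rfl
  have hsq : ∀ i, g i * g i = 1 := fun i => Subtype.ext (by
    rw [Subgroup.coe_mul, hgval]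
    exact Prod.ext (D.letters_sq X i) (D'.letters_sq X' i))
  have hgen : closure (g '' Set.Iio 7) = ⊤ := by
    rw [eq_top_iff, ← closure_closure_coe_preimage (k := P '' Set.Iio 7)]
    refine closure_mono ?_
    rintro x ⟨i, hi, e⟩
    exact ⟨i, hi, Subtype.ext ((hgval i).trans e)⟩
  have hrels : ∀ r ∈ fullRels, ev g r = 1 := fun r hr => Subtype.ext (by
    rw [← Subgroup.subtype_apply, map_ev, show (fun x => K.subtype (g x)) = P from funext hgval]
    refine Prod.ext ?_ ?_
    · rw [← MonoidHom.coe_fst, map_ev]; exact D.rels_hold X r hr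
    · rw [← MonoidHom.coe_snd, map_ev]; exact D'.rels_hold X' r hr)
  let S₀ : Subgroup (G × ↥Spor.M12) :=
    { carrier := (fun c => (α c, β c)) '' Set.Iio 192
      one_mem' := ⟨0, by norm_num, Prod.ext D.model.one D'.model.one⟩
      mul_mem' := by
        rintro _ _ ⟨c, hc, rfl⟩ ⟨d, hd, rfl⟩
        exact ⟨mC c d, mC_lt c hc d hd, Prod.ext (D.model.mul c hc d hd).symm (D'.model.mul c hc d hd).symm⟩
      inv_mem' := by
        rintro _ ⟨c, hc, rfl⟩
        exact ⟨invC c, (invC_spec c hc).1, Prod.ext (D.model.inv hc).symm (D'.model.inv hc).symm⟩ }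
  set S : Subgroup K := S₀.comap K.subtype with hS
  have hsubs : ∀ r ∈ centSubs, ev g r ∈ S := by
    intro r hr
    simp only [centSubs, List.mem_cons, List.not_mem_nil, or_false] at hr
    have key : ∀ i < 5, ev g [i] ∈ S := fun i hi => by
      show ((ev g [i] : ↥K) : G × ↥Spor.M12) ∈ S₀
      rw [show ev g [i] = g i by simp [ev], hgval]
      exact ⟨lCodes.getD i 0, (words_ok.2.2.2 i hi).1, by simp [P, genLetters, hi]⟩
    rcases hr with rfl | rfl | rfl | rfl | rfl <;> exact key _ (by norm_num)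
  obtain ⟨-, hidx⟩ := Cert.cert.index_le Cert.steps_ok Cert.rows_ok Cert.row_zero (by norm_num) g hsq
    (show g 7 = 1 by simp [g]) hgen hrels S hsubs
  have hS192 : Nat.card S ≤ 192 := by
    have h1 : Nat.card S₀ ≤ 192 := by
      refine le_trans (Set.ncard_image_le (Set.finite_Iio 192)) (le_of_eq ?_)
      exact Set.ncard_Iio_nat 192
    refine le_trans (Nat.card_le_card_of_injective (fun x : S => (⟨(x : K).1, x.2⟩ : S₀)) ?_) h1
    exact fun x x' e => Subtype.ext (Subtype.ext (congrArg (fun q : S₀ => (q : G × ↥Spor.M12)) e))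
  have hcard : Nat.card K ≤ 95040 := by
    rw [← S.card_mul_index]
    exact le_trans (Nat.mul_le_mul hS192 hidx) (by norm_num)
  set p₁ : K →* G := (MonoidHom.fst _ _).comp K.subtype with hp₁
  set p₂ : K →* ↥Spor.M12 := (MonoidHom.snd _ _).comp K.subtype with hp₂
  have s₁ : Function.Surjective p₁ := MonoidHom.range_eq_top.1 (D.eq_top X fun i hi => ⟨g i, by
    show (g i : G × ↥Spor.M12).1 = _; rw [hgval]⟩)
  have s₂ : Function.Surjective p₂ := MonoidHom.range_eq_top.1 (D'.eq_top X' fun i hi => ⟨g i, by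
    show (g i : G × ↥Spor.M12).2 = _; rw [hgval]⟩)
  have b₂ : Function.Bijective p₂ := s₂.bijective_of_nat_card_le (by rw [card_sporM12]; exact hcard)
  set e₂ := MulEquiv.ofBijective p₂ b₂
  set f : ↥Spor.M12 →* G := p₁.comp e₂.symm.toMonoidHom with hf
  have sf : Function.Surjective f := s₁.comp e₂.symm.surjective
  have bf : Function.Bijective f := by
    refine ⟨(MonoidHom.ker_eq_bot_iff f).1 ((IsSimpleGroup.eq_bot_or_eq_top_of_normal f.ker inferInstance).resolve_right
      fun h => ?_), sf⟩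
    obtain ⟨x, hx⟩ := sf z
    exact M.z_ne (hx ▸ MonoidHom.mem_ker.1 (h ▸ mem_top x))
  exact ⟨(MulEquiv.ofBijective f bf).symm⟩

/-- A simple nonabelian group with this centralizer is the Mathieu group. -/
theorem isoM12_of_model {G : Type*} [Group G] [Finite G] [IsSimpleGroup G] (hG : ¬ IsMulCommutative G) {z : G}
    {ψ : ℕ → G} (M : Model z ψ) : Nonempty (G ≃* ↥Spor.M12) := by
  obtain ⟨α, a, b, D, -⟩ := exists_data hG M
  exact isoM12_of_caseA D

end CfsgLib.Spor.MTwelveCent
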