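import Cfsg.Agent.Lib.Spor.MTwelveCent.Model

/-!
# Centralizers of the non-central involutions in the model
-/

set_option autoImplicit false
set_option maxRecDepth 100000

namespace CfsgLib.Spor.MTwelveCent

/-- The centralizers, as lists. -/
def centTbl : List (ℕ × List ℕ) := [(1, [0, 1, 14, 21, 56, 65, 85, 88, 104, 105, 120, 136, 142, 155, 189, 191]), 
    (2, [0, 2, 10, 21, 155, 180, 187, 191]), (3, [0, 3, 114, 124, 146, 155, 161, 181]), 
    (10, [0, 2, 10, 21, 155, 180, 187, 191]), (12, [0, 12, 63, 117, 144, 155, 161, 181]), 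
    (14, [0, 1, 14, 19, 21, 26, 36, 47, 80, 101, 116, 136, 140, 155, 189, 191]), 
    (17, [0, 17, 60, 91, 102, 148, 155, 186]), 
    (19, [0, 14, 19, 47, 65, 80, 91, 104, 105, 140, 142, 148, 155, 165, 174, 189]), 
    (21, [0, 1, 2, 4, 6, 10, 14, 21, 91, 108, 122, 129, 130, 132, 136, 137, 148, 149, 151, 155, 161, 164, 165, 169, 173, 174, 180, 181, 184, 187, 189, 191]), 
    (44, [0, 44, 52, 91, 109, 148, 155, 162]), 
    (47, [0, 14, 19, 47, 65, 80, 91, 104, 105, 140, 142, 148, 155, 165, 174, 189]), 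
    (52, [0, 44, 52, 91, 109, 148, 155, 162]), 
    (56, [0, 1, 56, 65, 80, 101, 116, 120, 136, 140, 142, 155, 161, 165, 174, 181]), 
    (60, [0, 17, 60, 91, 102, 148, 155, 186]), (63, [0, 12, 63, 117, 144, 155, 161, 181]), 
    (65, [0, 1, 19, 26, 36, 47, 56, 65, 91, 108, 120, 129, 136, 142, 148, 155]), 
    (80, [0, 14, 19, 47, 56, 80, 85, 88, 108, 120, 129, 140, 155, 161, 181, 189]), 
    (91, [0, 17, 19, 21, 35, 39, 42, 44, 47, 52, 54, 60, 65, 85, 88, 91, 101, 102, 109, 116, 142, 147, 148, 153, 155, 161, 162, 166, 170, 181, 186, 191]), 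
    (102, [0, 17, 60, 91, 102, 148, 155, 186]), (109, [0, 44, 52, 91, 109, 148, 155, 162]), 
    (114, [0, 3, 114, 124, 146, 155, 161, 181]), (117, [0, 12, 63, 117, 144, 155, 161, 181]), 
    (120, [0, 1, 56, 65, 80, 101, 116, 120, 136, 140, 142, 155, 161, 165, 174, 181]), 
    (124, [0, 3, 114, 124, 146, 155, 161, 181]), (132, [0, 21, 132, 137, 149, 155, 184, 191]), 
    (136, [0, 1, 14, 21, 56, 65, 85, 88, 104, 105, 120, 136, 142, 155, 189, 191]), 
    (137, [0, 21, 132, 137, 149, 155, 184, 191]), 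
    (140, [0, 14, 19, 47, 56, 80, 85, 88, 108, 120, 129, 140, 155, 161, 181, 189]), 
    (142, [0, 1, 19, 26, 36, 47, 56, 65, 91, 108, 120, 129, 136, 142, 148, 155]), 
    (144, [0, 12, 63, 117, 144, 155, 161, 181]), (146, [0, 3, 114, 124, 146, 155, 161, 181]), 
    (148, [0, 17, 19, 21, 35, 39, 42, 44, 47, 52, 54, 60, 65, 85, 88, 91, 101, 102, 109, 116, 142, 147, 148, 153, 155, 161, 162, 166, 170, 181, 186, 191]), 
    (149, [0, 21, 132, 137, 149, 155, 184, 191]), 
    (161, [0, 3, 12, 21, 26, 36, 40, 49, 50, 56, 59, 63, 80, 91, 104, 105, 114, 117, 120, 124, 140, 144, 146, 148, 155, 158, 161, 175, 177, 181, 188, 191]), 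
    (162, [0, 44, 52, 91, 109, 148, 155, 162]), (180, [0, 2, 10, 21, 155, 180, 187, 191]), 
    (181, [0, 3, 12, 21, 26, 36, 40, 49, 50, 56, 59, 63, 80, 91, 104, 105, 114, 117, 120, 124, 140, 144, 146, 148, 155, 158, 161, 175, 177, 181, 188, 191]), 
    (184, [0, 21, 132, 137, 149, 155, 184, 191]), (186, [0, 17, 60, 91, 102, 148, 155, 186]), 
    (187, [0, 2, 10, 21, 155, 180, 187, 191]), 
    (189, [0, 1, 14, 19, 21, 26, 36, 47, 80, 101, 116, 136, 140, 155, 189, 191]), 
    (191, [0, 1, 2, 4, 6, 10, 14, 21, 91, 108, 122, 129, 130, 132, 136, 137, 148, 149, 151, 155, 161, 164, 165, 169, 173, 174, 180, 181, 184, 187, 189, 191])]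

/-- The centralizer of a code. -/
def centList (a : ℕ) : List ℕ := if a = zC then List.range 192 else ((centTbl.lookup a).getD [])

theorem centList_spec : ∀ a ∈ invList, ∀ c < 192, c ∈ centList a ↔ commC c a = true := by decide +kernel

theorem centList_lt : ∀ a ∈ invList, ∀ c ∈ centList a, c < 192 := by decide +kernel

theorem centList_nodup : ∀ a ∈ invList, (centList a).Nodup := by decide +kernel

end CfsgLib.Spor.MTwelveCent
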