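import Cfsg.Agent.Lib.Spor.MTwelveCent.Transport
import Cfsg.Agent.Lib.Spor.MTwelveCent.CentLists
import Cfsg.Agent.Lib.Invol.ZStar

/-!
# The Sylow subgroup and the first fusion
-/

set_option autoImplicit false
set_option linter.unusedSectionVars false
set_option maxRecDepth 100000

namespace CfsgLib.Spor.MTwelveCent

open Subgroup

theorem class_reps : (∀ c ∈ pList, ∃ k < 192, conjC k pC = c) ∧ (∀ c ∈ rList, ∃ k < 192, conjC k vC = c) ∧
    (∀ c ∈ sList, ∃ k < 192, conjC k 2 = c) ∧ 2 ∈ sList := by decide +kernel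

theorem list_mem : (∀ c ∈ zList, c ∈ invList) ∧ (∀ c ∈ pList, c ∈ invList) ∧ (∀ c ∈ rList, c ∈ invList) ∧
    (∀ c ∈ sList, c ∈ invList) ∧
    ∀ c ∈ invList, c = zC ∨ c ∈ pList ∨ c ∈ rList ∨ c ∈ sList := by decide +kernel

theorem centList_closed {G : Type*} [Group G] {z : G} {ψ : ℕ → G} (M : Model z ψ) {a : ℕ} (ha : a ∈ invList) :
    Closed (centList a) := by
  have hl := (invList_lt a ha).1
  refine ⟨(centList_spec a ha 0 (by norm_num)).2 ((M.comm_iff (by norm_num) hl).1 (by rw [M.one, one_mul, mul_one])),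
    fun c hc => ⟨centList_lt a ha c hc, ?_, fun d hd => ?_⟩⟩
  · have hcl := centList_lt a ha c hc
    have h : Commute (ψ c) (ψ a) := (M.comm_iff hcl hl).2 ((centList_spec a ha c hcl).1 hc)
    exact (centList_spec a ha _ (invC_spec c hcl).1).2
      ((M.comm_iff (invC_spec c hcl).1 hl).1 (by rw [← M.inv hcl]; exact h.inv_left.eq))
  · have hcl := centList_lt a ha c hc
    have hdl := centList_lt a ha d hd
    have h : Commute (ψ c) (ψ a) := (M.comm_iff hcl hl).2 ((centList_spec a ha c hcl).1 hc)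
    have h' : Commute (ψ d) (ψ a) := (M.comm_iff hdl hl).2 ((centList_spec a ha d hdl).1 hd)
    exact (centList_spec a ha _ (mC_lt c hcl d hdl)).2
      ((M.comm_iff (mC_lt c hcl d hdl) hl).1 (by rw [← M.mul c hcl d hdl]; exact (h.mul_left h').eq))

theorem centList_length : ∀ a ∈ invList, a ≠ zC →
    ((centList a).length = 32 ↔ a ∈ pList) ∧ ((centList a).length = 16 ↔ a ∈ rList) ∧
      ((centList a).length = 8 ↔ a ∈ sList) := by decide +kernel

theorem r_square : ∀ a ∈ rList, ∃ k ∈ centList a, mC k k = zC := by decide +kernel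

theorem r_squares : ∀ a ∈ rList, ∀ k ∈ centList a, mC k k = 0 ∨ mC k k = zC := by decide +kernel

theorem s_pairs : ∀ a ∈ sList, ∃ k ∈ centList a, ∃ l ∈ centList a, k ∈ pList ∧ l ∈ pList ∧ k ≠ l ∧ mC k l = zC ∧
    ∀ m ∈ centList a, m = 0 ∨ m = k ∨ m = l ∨ m = zC ∨ m ∈ sList := by decide +kernel

theorem zero_not_inv : 0 ∉ invList ∧ zC ∈ invList := by decide +kernel

namespace Model

variable {G : Type*} [Group G] [Finite G] {z : G} {ψ : ℕ → G} (M : Model z ψ)
include M

theorem card_centList {a : ℕ} (ha : a ∈ invList) :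
    Nat.card ↥(centralizer ({z} : Set G) ⊓ centralizer ({ψ a} : Set G)) = (centList a).length := by
  have hcl := centList_closed M ha
  have hnd := centList_nodup a ha
  have hl := (invList_lt a ha).1
  rw [← M.card_sub _ hcl hnd]
  refine congrArg (fun K : Subgroup G => Nat.card K) ?_
  ext x
  rw [mem_inf, M.mem_sub]
  constructor
  · rintro ⟨hx, hxa⟩
    obtain ⟨c, hc, rfl⟩ := M.surj x hx
    refine ⟨c, (centList_spec a ha c hc).2 ?_, rfl⟩
    exact (M.comm_iff hc hl).1 (mem_centralizer_singleton_iff.1 hxa)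
  · rintro ⟨c, hc, rfl⟩
    have hc1 := centList_lt a ha c hc
    exact ⟨M.mem c hc1,
      mem_centralizer_singleton_iff.2 ((M.comm_iff hc1 hl).2 ((centList_spec a ha c hc1).1 hc))⟩

/-- A conjugate of the central involution in the centralizer, seen from the other side. -/
theorem partner {g : G} {a : ℕ} (ha : a ∈ invList) (haz : a ≠ zC) (hg : g * z * g⁻¹ = ψ a) :
    ∃ c ∈ invList, c ≠ zC ∧ g * ψ c * g⁻¹ = z ∧ (centList c).length = (centList a).length := by
  have hl := (invList_lt a ha).1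
  have M' := hg ▸ M.conj_by g
  obtain ⟨c, hc, e⟩ := M'.inv_code (x := z) (M.comm_z hl).symm M.zz M.z_ne
  refine ⟨c, hc, fun h => haz ?_, e, ?_⟩
  · subst h
    exact M.inj a hl zC (by norm_num) (by rw [← hg, M.at_z]; exact (M.at_z ▸ e))
  · have h1 := Model.card_centList M' hc
    rw [e, inf_comm, M.card_centList ha] at h1
    exact h1.symm

theorem isConj_p {c : ℕ} (hc : c ∈ pList) : IsConj (ψ pC) (ψ c) := by
  obtain ⟨k, hk, e⟩ := class_reps.1 c hc
  exact M.isConj_of hk (by norm_num) e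

theorem isConj_r {c : ℕ} (hc : c ∈ rList) : IsConj (ψ vC) (ψ c) := by
  obtain ⟨k, hk, e⟩ := class_reps.2.1 c hc
  exact M.isConj_of hk (by norm_num) e

theorem isConj_s {c : ℕ} (hc : c ∈ sList) : IsConj (ψ 2) (ψ c) := by
  obtain ⟨k, hk, e⟩ := class_reps.2.2.1 c hc
  exact M.isConj_of hk (by norm_num) e

/-- The involutions of the other class are not conjugate to the central one. -/
theorem not_isConj_r {c : ℕ} (hc : c ∈ rList) : ¬ IsConj z (ψ c) := by
  intro hconj
  obtain ⟨g, hg⟩ := isConj_iff.1 hconj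
  have hi := list_mem.2.2.1 c hc
  have hcl := (invList_lt c hi).1
  have hcz : c ≠ zC := by rintro rfl; revert hc; decide
  obtain ⟨d, hd, hdz, e, hlen⟩ := M.partner hi hcz hg
  rw [((centList_length c hi hcz).2.1).2 hc] at hlen
  have hdr := ((centList_length d hd hdz).2.1).1 hlen
  have hdl := (invList_lt d hd).1
  obtain ⟨k, hk, ek⟩ := r_square d hdr
  have hk1 := centList_lt d hd k hk
  have hk2 := (centList_spec d hd k hk1).1 hk
  -- the element commutes with both and squares to the conjugate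
  have hy : (g * ψ k * g⁻¹) * (g * ψ k * g⁻¹) = ψ c := by
    rw [← hg, show g * ψ k * g⁻¹ * (g * ψ k * g⁻¹) = g * (ψ k * ψ k) * g⁻¹ by group, M.mul k hk1 k hk1, ek, M.at_z]
  have hyz : g * ψ k * g⁻¹ * z = z * (g * ψ k * g⁻¹) := by
    rw [← e]
    calc g * ψ k * g⁻¹ * (g * ψ d * g⁻¹) = g * (ψ k * ψ d) * g⁻¹ := by group
      _ = g * (ψ d * ψ k) * g⁻¹ := by rw [(M.comm_iff hk1 hdl).2 hk2]
      _ = _ := by group
  obtain ⟨m, hm, em⟩ := M.code_of_comm hyz
  rw [← em, M.mul m hm m hm] at hy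
  have hmc : m ∈ centList c := (centList_spec c hi m hm).2 ((M.comm_iff hm hcl).1 (by
    rw [em, ← hg]
    calc g * ψ k * g⁻¹ * (g * z * g⁻¹) = g * (ψ k * z) * g⁻¹ := by group
      _ = g * (z * ψ k) * g⁻¹ := by rw [M.comm_z hk1]
      _ = _ := by group))
  have h := M.inj _ (mC_lt m hm m hm) c hcl hy
  rcases r_squares c hc m hmc with h' | h' <;> rw [h] at h'
  · exact (invList_lt c hi).2 h'
  · exact hcz h'

theorem p_isConj_of (h : IsConj z (ψ pC)) {c : ℕ} (hc : c ∈ pList) : IsConj z (ψ c) := h.trans (M.isConj_p hc)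

/-- An involution outside the radical conjugate to the central one brings one inside. -/
theorem isConj_p_of_s {c : ℕ} (hc : c ∈ sList) (hconj : IsConj z (ψ c)) : IsConj z (ψ pC) := by
  by_contra hp
  obtain ⟨g, hg⟩ := isConj_iff.1 hconj
  have hi := list_mem.2.2.2.1 c hc
  have hcl := (invList_lt c hi).1
  have hcz : c ≠ zC := by rintro rfl; revert hc; decide
  obtain ⟨d, hd, hdz, e, hlen⟩ := M.partner hi hcz hg
  rw [((centList_length c hi hcz).2.2).2 hc] at hlen
  have hds := ((centList_length d hd hdz).2.2).1 hlen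
  have hdl := (invList_lt d hd).1
  obtain ⟨k, hk, l, hl, hkp, hlp, hkl, ekl, -⟩ := s_pairs d hds
  obtain ⟨k', hk', l', hl', hkp', hlp', hkl', ekl', hall⟩ := s_pairs c hc
  have not_z : ∀ m ∈ pList, ¬ IsConj z (ψ m) := fun m hm h => hp (h.trans (M.isConj_p hm).symm)
  -- the images of the pair lie in the pair
  have image : ∀ m ∈ centList d, m ∈ pList → ∃ m' ∈ centList c, g * ψ m * g⁻¹ = ψ m' ∧ (m' = k' ∨ m' = l') := by
    intro m hm hmp
    have hm1 := centList_lt d hd m hm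
    have hm2 := (centList_spec d hd m hm1).1 hm
    obtain ⟨m', hm', e'⟩ := M.code_of_comm (g := g * ψ m * g⁻¹) (by
      rw [← e]
      calc g * ψ m * g⁻¹ * (g * ψ d * g⁻¹) = g * (ψ m * ψ d) * g⁻¹ := by group
        _ = g * (ψ d * ψ m) * g⁻¹ := by rw [(M.comm_iff hm1 hdl).2 hm2]
        _ = _ := by group)
    have hmc : m' ∈ centList c := (centList_spec c hi m' hm').2 ((M.comm_iff hm' hcl).1 (by
      rw [e', ← hg]
      calc g * ψ m * g⁻¹ * (g * z * g⁻¹) = g * (ψ m * z) * g⁻¹ := by group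
        _ = g * (z * ψ m) * g⁻¹ := by rw [M.comm_z hm1]
        _ = _ := by group))
    have hnz : ¬ IsConj z (ψ m') := fun h => not_z m hmp (h.trans (by rw [e']; exact (isConj_iff.2 ⟨g, rfl⟩).symm))
    refine ⟨m', hmc, e'.symm, ?_⟩
    rcases hall m' hmc with h | h | h | h | h
    · refine absurd ?_ (invList_lt m (list_mem.2.1 m hmp)).2
      rw [h, M.one] at e'
      exact (M.eq_one_iff hm1).1 (conj_eq_one_iff.1 e'.symm)
    · exact Or.inl h
    · exact Or.inr h
    · exact absurd (by rw [h, M.at_z]) hnz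
    · exact absurd (hconj.trans ((M.isConj_s hc).symm.trans (M.isConj_s h))) hnz
  obtain ⟨mk, -, ek, ck⟩ := image k hk hkp
  obtain ⟨ml, -, el, cl⟩ := image l hl hlp
  have hk1 := centList_lt d hd k hk
  have hl1 := centList_lt d hd l hl
  have hk1' := centList_lt c hi k' hk'
  have hl1' := centList_lt c hi l' hl'
  have hne : mk ≠ ml := fun h => hkl (M.inj k hk1 l hl1 (mul_left_cancel (mul_right_cancel (ek.trans (h ▸ el.symm)))))
  have hprod : ψ mk * ψ ml = ψ c := by
    rw [← ek, ← el, ← hg, show g * ψ k * g⁻¹ * (g * ψ l * g⁻¹) = g * (ψ k * ψ l) * g⁻¹ by group,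
      M.mul k hk1 l hl1, ekl, M.at_z]
  have hz' : ψ k' * ψ l' = z := by rw [M.mul k' hk1' l' hl1', ekl', M.at_z]
  have hz'' : ψ l' * ψ k' = z := by
    have i1 := (M.code_ne (list_mem.2.1 k' hkp')).2
    have i2 := (M.code_ne (list_mem.2.1 l' hlp')).2
    calc ψ l' * ψ k' = (ψ k' * ψ l')⁻¹ := by
          rw [mul_inv_rev, inv_eq_of_mul_eq_one_right i1, inv_eq_of_mul_eq_one_right i2]
      _ = z := by rw [hz']; exact inv_eq_of_mul_eq_one_right M.zz
  rcases ck with rfl | rfl <;> rcases cl with rfl | rfl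
  · exact hne rfl
  · exact hcz (M.inj c hcl zC (by norm_num) (by rw [← hprod, hz', M.at_z]))
  · exact hcz (M.inj c hcl zC (by norm_num) (by rw [← hprod, hz'', M.at_z]))
  · exact hne rfl

/-- The Sylow subgroup. -/
def grpT : Subgroup G := M.sub tList tList_facts.1

theorem card_grpT : Nat.card M.grpT = 64 := by
  rw [grpT, M.card_sub _ _ tList_facts.2.1, tList_facts.2.2.1]

theorem z_mem_grpT : z ∈ M.grpT := ⟨zC, tList_facts.2.2.2.1, M.at_z⟩

theorem grpT_le : M.grpT ≤ centralizer ({z} : Set G) := by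
  rintro _ ⟨c, hc, rfl⟩
  exact M.mem c (tList_facts.2.2.2.2 c hc)

theorem central_eq {x : G} (hx : x * x = 1) (hx1 : x ≠ 1) (h : ∀ t ∈ M.grpT, x * t = t * x) : x = z := by
  obtain ⟨c, hc, rfl⟩ := M.inv_code (h z M.z_mem_grpT) hx hx1
  have l := (invList_lt c hc).1
  rw [M.eq_z_iff l]
  exact tList_center c hc fun d hd => (M.comm_iff l (tList_facts.2.2.2.2 d hd)).1 (h _ ⟨d, hd, rfl⟩)

theorem exists_sylow : ∃ P : Sylow 2 G, (P : Subgroup G) = M.grpT := by
  haveI : Fact (Nat.Prime 2) := ⟨Nat.prime_two⟩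
  have hT : IsPGroup 2 M.grpT := IsPGroup.of_card (n := 6) (by rw [M.card_grpT]; norm_num)
  obtain ⟨P, hP⟩ := hT.exists_le_sylow
  refine ⟨P, ?_⟩
  by_contra hne
  haveI := P.isPGroup'.isNilpotent
  have hlt : M.grpT.subgroupOf (P : Subgroup G) < ⊤ := by
    rw [lt_top_iff_ne_top, Ne, subgroupOf_eq_top]
    exact fun h => hne (le_antisymm h hP)
  obtain ⟨g, hgN, hgT⟩ :=
    SetLike.exists_of_lt (Group.normalizerCondition_of_isNilpotent (G := (P : Subgroup G)) _ hlt)
  rw [mem_subgroupOf] at hgT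
  have hz : (g : G) * z * (g : G)⁻¹ = z := by
    refine M.central_eq ?_ (fun h => M.z_ne (conj_eq_one_iff.1 h)) fun t ht => ?_
    · rw [show (g : G) * z * (g : G)⁻¹ * ((g : G) * z * (g : G)⁻¹) = g * (z * z) * (g : G)⁻¹ by group, M.zz]
      group
    · have hgi : (g : G)⁻¹ * t * g ∈ M.grpT := by
        have h := (Subgroup.mem_normalizer_iff.1 (inv_mem hgN) ⟨t, hP ht⟩).1 (mem_subgroupOf.2 ht)
        simpa [mem_subgroupOf] using h
      obtain ⟨c, hc, e⟩ := hgi
      have := M.comm_z (tList_facts.2.2.2.2 c hc)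
      rw [e] at this
      calc (g : G) * z * (g : G)⁻¹ * t = g * (z * ((g : G)⁻¹ * t * g)) * (g : G)⁻¹ := by group
        _ = g * ((g : G)⁻¹ * t * g * z) * (g : G)⁻¹ := by rw [this]
        _ = _ := by group
  set X := (P : Subgroup G) ⊓ centralizer ({z} : Set G) with hX
  have hTX : M.grpT ≤ X := le_inf hP M.grpT_le
  obtain ⟨n, hn'⟩ := IsPGroup.iff_card.1 ((P.isPGroup').to_le (inf_le_left (b := centralizer ({z} : Set G))))
  have hd : Nat.card X ∣ 192 := M.card ▸ card_dvd_of_le inf_le_right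
  rw [hn'] at hd
  have hn6 : n ≤ 6 := by
    by_contra h
    have : 2 ^ 7 ∣ 192 := (Nat.pow_dvd_pow 2 (by omega)).trans hd
    omega
  have hcard : Nat.card X ≤ Nat.card M.grpT := by
    rw [hn', M.card_grpT]
    exact (Nat.pow_le_pow_right (by norm_num) hn6).trans (by norm_num)
  have e := eq_of_le_of_card_ge hTX hcard
  exact hgT (e ▸ ⟨g.2, mem_centralizer_singleton_iff.2 (mul_inv_eq_iff_eq_mul.1 hz)⟩)

/-- Every involution is conjugate to one of the centralizer. -/
theorem conj_into {x : G} (hx : x * x = 1) (hx1 : x ≠ 1) : ∃ c ∈ invList, IsConj x (ψ c) := by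
  haveI : Fact (Nat.Prime 2) := ⟨Nat.prime_two⟩
  obtain ⟨P, hP⟩ := M.exists_sylow
  have hx2 : IsPGroup 2 (zpowers x) := IsPGroup.of_card (n := 1) (by
    rw [Nat.card_zpowers, pow_one, orderOf_eq_prime (by rw [pow_two, hx]) hx1])
  obtain ⟨P', hP'⟩ := hx2.exists_le_sylow
  obtain ⟨g, hg⟩ := MulAction.exists_smul_eq G P' P
  have hgx : g * x * g⁻¹ ∈ M.grpT := by
    rw [← hP, ← hg, Sylow.coe_subgroup_smul]
    exact ⟨x, hP' (mem_zpowers x), rfl⟩
  obtain ⟨c, hc, e⟩ := M.inv_code (mem_centralizer_singleton_iff.1 (M.grpT_le hgx))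
    (by rw [show g * x * g⁻¹ * (g * x * g⁻¹) = g * (x * x) * g⁻¹ by group, hx]; group)
    (fun h => hx1 (conj_eq_one_iff.1 h))
  exact ⟨c, hc, isConj_iff.2 ⟨g, e.symm⟩⟩

/-- The centre is trivial and there is no odd core. -/
theorem isConj_pC [IsSimpleGroup G] (hG : ¬ IsMulCommutative G) : IsConj z (ψ pC) := by
  by_contra hp
  have hiso : Cfsg.IsIsolatedInvolution z := by
    refine ⟨M.ord, fun g hg => ?_⟩
    obtain ⟨c, hc, e⟩ := M.inv_code hg.eq.symm
      (by rw [show g * z * g⁻¹ * (g * z * g⁻¹) = g * (z * z) * g⁻¹ by group, M.zz]; group)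
      (fun h => M.z_ne (conj_eq_one_iff.1 h))
    have hconj : IsConj z (ψ c) := isConj_iff.2 ⟨g, e.symm⟩
    rcases list_mem.2.2.2.2 c hc with rfl | h | h | h
    · rw [← e, M.at_z]
    · exact absurd (hconj.trans (M.isConj_p h).symm) hp
    · exact absurd hconj (M.not_isConj_r h)
    · exact absurd (M.isConj_p_of_s h hconj) hp
  have hz := CfsgLib.Invol.zstar hiso
  have hnd : ¬ 2 ∣ Nat.card (Cfsg.pPrimeCore 2 G) := CfsgLib.Coprime.pPrimeCore_not_dvd (G := G) Nat.prime_two
  haveI : (Cfsg.pPrimeCore 2 G).Characteristic := CfsgLib.Coprime.pPrimeCore_characteristic 2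
  have hbot : Cfsg.pPrimeCore 2 G = ⊥ := by
    refine (IsSimpleGroup.eq_bot_or_eq_top_of_normal _ inferInstance).resolve_right fun h => hnd ?_
    rw [h, Subgroup.card_top, ← M.ord]
    exact orderOf_dvd_natCard z
  have hzc : z ∈ center G := mem_center_iff.2 fun g => by
    have h := hz g
    rw [hbot, mem_bot, mul_inv_eq_one] at h
    exact (mul_inv_eq_iff_eq_mul.1 h).symm
  rcases IsSimpleGroup.eq_bot_or_eq_top_of_normal (center G) inferInstance with h | h
  · exact M.z_ne (mem_bot.1 (h ▸ hzc))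
  · exact hG ⟨⟨fun a b => (mem_center_iff.1 (h ▸ mem_top b : b ∈ center G) a)⟩⟩

end Model

end CfsgLib.Spor.MTwelveCent
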