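import Cfsg.Agent.Lib.Spor.MTwelveCent.Real

/-!
# Transporting the model
-/

set_option autoImplicit false
set_option linter.unusedSectionVars false
set_option maxRecDepth 100000

namespace CfsgLib.Spor.MTwelveCent

open Cfsg Subgroup

theorem tList_facts : Closed tList ∧ tList.Nodup ∧ tList.length = 64 ∧ zC ∈ tList ∧ (∀ c ∈ tList, c < 192) := by
  decide +kernel

theorem tList_center : ∀ c ∈ invList, (∀ d ∈ tList, commC c d = true) → c = zC := by decide +kernel

/-- An isomorphism of centralizers transports the model. -/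
theorem exists_model_of_equiv {G P : Type*} [Group G] [Group P] {t : G} (ht : orderOf t = 2) {t₀ : P} {φ : ℕ → P}
    (M : Model t₀ φ) (e : ↥(centralizer ({t} : Set G)) ≃* ↥(centralizer ({t₀} : Set P))) :
    ∃ ψ : ℕ → G, Model t ψ := by
  let ψ : ℕ → G := fun c => if h : c < 192 then ((e.symm ⟨φ c, M.mem c h⟩ : _) : G) else 1
  have hv : ∀ {c}, (hc : c < 192) → ψ c = ((e.symm ⟨φ c, M.mem c hc⟩ : _) : G) := fun hc => dif_pos hc
  let tt : centralizer ({t} : Set G) := ⟨t, mem_centralizer_singleton_iff.2 rfl⟩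
  have he : e tt = ⟨t₀, mem_centralizer_singleton_iff.2 rfl⟩ := by
    obtain ⟨c, hc, ec⟩ := M.surj _ (e tt).2
    have hcomm : ∀ d ∈ gCodes, commC c d = true := by
      intro d hd
      refine (M.comm_iff hc (gCodes_lt d hd)).1 ?_
      have h : e tt * ⟨φ d, M.mem d (gCodes_lt d hd)⟩ = ⟨φ d, M.mem d (gCodes_lt d hd)⟩ * e tt := by
        refine e.symm.injective ?_
        rw [map_mul, map_mul, e.symm_apply_apply]
        exact Subtype.ext (mem_centralizer_singleton_iff.1 (e.symm ⟨φ d, _⟩).2).symm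
      rw [ec]
      exact congrArg Subtype.val h
    refine Subtype.ext ?_
    rcases center_eq c hc hcomm with rfl | rfl
    · exfalso
      rw [M.one] at ec
      have ht1 : tt = 1 := e.injective ((Subtype.ext ec.symm).trans (map_one e).symm)
      exact absurd (congrArg Subtype.val ht1) fun h => by simp [show t = 1 from h] at ht
    · rw [← ec]; exact M.at_z
  refine ⟨ψ, ht, fun c hc => ?_, fun c hc d hd => ?_, fun c hc d hd h => ?_, fun g hg => ?_, ?_⟩
  · rw [hv hc]; exact Subtype.coe_prop _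
  · rw [hv hc, hv hd, hv (mC_lt _ hc _ hd), ← Subgroup.coe_mul, ← map_mul]
    exact congrArg (fun v => ((e.symm v : _) : G)) (Subtype.ext (M.mul c hc d hd))
  · rw [hv hc, hv hd] at h
    exact M.inj c hc d hd (congrArg Subtype.val (e.symm.injective (Subtype.ext h)))
  · obtain ⟨c, hc, ec⟩ := M.surj _ (e ⟨g, hg⟩).2
    refine ⟨c, hc, ?_⟩
    rw [hv hc, show (⟨φ c, M.mem c hc⟩ : centralizer ({t₀} : Set P)) = e ⟨g, hg⟩ from Subtype.ext ec,
      e.symm_apply_apply]
  · rw [hv (show zC < 192 by norm_num), show (⟨φ zC, M.mem zC (by norm_num)⟩ : centralizer ({t₀} : Set P)) = e tt from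
      (Subtype.ext M.at_z).trans he.symm, e.symm_apply_apply]

/-- Conjugation transports the model. -/
theorem Model.conj_by {G : Type*} [Group G] {z : G} {ψ : ℕ → G} (M : Model z ψ) (g : G) :
    Model (g * z * g⁻¹) fun c => g * ψ c * g⁻¹ := by
  refine ⟨?_, fun c hc => ?_, fun c hc d hd => ?_, fun c hc d hd h => ?_, fun x hx => ?_, ?_⟩
  · rw [← M.ord]; exact (MulEquiv.orderOf_eq (MulAut.conj g) z)
  · rw [mem_centralizer_singleton_iff]
    calc g * ψ c * g⁻¹ * (g * z * g⁻¹) = g * (ψ c * z) * g⁻¹ := by group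
      _ = g * (z * ψ c) * g⁻¹ := by rw [M.comm_z hc]
      _ = _ := by group
  · show g * ψ c * g⁻¹ * (g * ψ d * g⁻¹) = g * ψ (mC c d) * g⁻¹
    rw [← M.mul c hc d hd]; group
  · exact M.inj c hc d hd (mul_left_cancel (mul_right_cancel h))
  · rw [mem_centralizer_singleton_iff] at hx
    obtain ⟨c, hc, e⟩ := M.code_of_comm (g := g⁻¹ * x * g) (by
      calc g⁻¹ * x * g * z = g⁻¹ * (x * (g * z * g⁻¹)) * g := by group
        _ = g⁻¹ * (g * z * g⁻¹ * x) * g := by rw [hx]
        _ = _ := by group)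
    exact ⟨c, hc, by show g * ψ c * g⁻¹ = x; rw [e]; group⟩
  · show g * ψ zC * g⁻¹ = _
    rw [M.at_z]

/-- A central involution of the Mathieu group of degree twelve is conjugate to the chosen one. -/
theorem exists_model_twoCentral {u : ↥Spor.M12} (hu : Cfsg.IsTwoCentralInvolution u) :
    ∃ φ : ℕ → ↥Spor.M12, Model u φ := by
  haveI : Fact (Nat.Prime 2) := ⟨Nat.prime_two⟩
  obtain ⟨hu2, P, hP, hcent⟩ := hu
  have M := mTwelveModel
  obtain ⟨hT, hTn, hTl, hzT, hTlt⟩ := tList_facts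
  set T := M.sub tList hT with hTdef
  have hTc : Nat.card T = 64 := by rw [hTdef, M.card_sub _ _ hTn, hTl]
  have hT2 : IsPGroup 2 T := IsPGroup.of_card (n := 6) (by rw [hTc]; norm_num)
  obtain ⟨Q, hQ⟩ := hT2.exists_le_sylow
  have hQeq : (Q : Subgroup ↥Spor.M12) = T := by
    refine (Subgroup.eq_of_le_of_card_ge hQ ?_).symm
    obtain ⟨n, hn⟩ := IsPGroup.iff_card.1 Q.isPGroup'
    have hd : 2 ^ n ∣ 95040 := card_sporM12 ▸ hn ▸ Subgroup.card_subgroup_dvd_card _
    have hn6 : n ≤ 6 := by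
      by_contra h
      have : 2 ^ 7 ∣ 95040 := (Nat.pow_dvd_pow 2 (by omega)).trans hd
      omega
    rw [hn, hTc]
    exact (Nat.pow_le_pow_right (by norm_num) hn6).trans (by norm_num)
  obtain ⟨g, hg⟩ := MulAction.exists_smul_eq ↥Spor.M12 P Q
  have hgu : ∀ x ∈ T, g * u * g⁻¹ * x = x * (g * u * g⁻¹) := by
    intro x hx
    rw [← hQeq, ← hg, Sylow.coe_subgroup_smul] at hx
    obtain ⟨y, hy, rfl⟩ := hx
    show g * u * g⁻¹ * (g * y * g⁻¹) = g * y * g⁻¹ * (g * u * g⁻¹)
    calc _ = g * (u * y) * g⁻¹ := by group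
      _ = g * (y * u) * g⁻¹ := by rw [hcent y hy]
      _ = _ := by group
  have hne : g * u * g⁻¹ ≠ 1 := fun h => by
    rw [conj_eq_one_iff] at h; simp [h] at hu2
  have hsq : g * u * g⁻¹ * (g * u * g⁻¹) = 1 := by
    rw [show g * u * g⁻¹ * (g * u * g⁻¹) = g * (u * u) * g⁻¹ by group, ← sq, ← hu2, pow_orderOf_eq_one]; group
  obtain ⟨c, hc, e⟩ := M.inv_code (hgu _ ⟨zC, hzT, M.at_z⟩) hsq hne
  have hcz : c = zC := tList_center c hc fun d hd => by
    refine (M.comm_iff (invList_lt c hc).1 (hTlt d hd)).1 ?_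
    rw [e]
    exact hgu _ ⟨d, hd, rfl⟩
  subst hcz
  refine ⟨_, (show g⁻¹ * psi₀ zC * g⁻¹⁻¹ = u by rw [e]; group) ▸ M.conj_by g⁻¹⟩

end CfsgLib.Spor.MTwelveCent
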