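import Cfsg.Agent.Lib.Spor.MTwelveCent.Model

/-!
# The automorphisms of the centralizer of a four group induced by elements of order three
-/

set_option autoImplicit false
set_option maxRecDepth 100000

namespace CfsgLib.Spor.MTwelveCent

/-- Words in `uGens` for the elements of `uList`, in the same order. -/
def uWords : List (List ℕ) := [[], [1], [1, 0, 2, 2], [2, 1], [0, 0, 0, 2, 2], [0, 2, 2], [2], [0, 0, 0, 2], [0, 1, 2, 1], [2, 1, 0], 
    [1, 2, 1], [0, 1, 2, 2], [0, 1, 2], [1, 2], [0], [0, 0, 0], [0, 0, 1], [0, 1], [0, 2, 1], 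
    [0, 0, 1, 2, 2], [1, 0, 2], [1, 0], [1, 2, 2], [0, 0, 1, 2], [0, 0], [0, 2], [0, 0, 2, 2], [1, 0, 2, 1], 
    [0, 0, 1, 2, 1], [2, 2], [0, 0, 2], [0, 0, 2, 1]]

/-- The extension of a triple of images to `uList`. -/
noncomputable def extU (im : List ℕ) (x : ℕ) : ℕ :=
  (uWords.getD (uList.idxOf x) []).foldl (fun r i => mC r (im.getD i 0)) 0

/-- Whether a triple gives an automorphism of order three sending `zC` to `pC`. -/
noncomputable def validAut (im : List ℕ) : Bool :=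
  ((mC (im.getD 0 0) (im.getD 0 0) != 0) && ((mC (im.getD 1 0) (im.getD 1 0) == 0) &&
    ((mC (im.getD 2 0) (im.getD 2 0) != 0) && (extU im zC == pC)))) && ((uList.all fun x => (List.range 3).all fun i =>
    extU im (mC x (uGens.getD i 0)) == mC (extU im x) (im.getD i 0)) &&
    uList.all fun x => extU im (extU im (extU im x)) == x)

/-- The condition on the element relating the conjugate by `sC` to the inverse. -/
noncomputable def flipOK (im : List ℕ) (f : ℕ) : Bool :=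
  (conjC sC f == extU im f) && ((mC (mC f (extU im (extU im f))) (extU im f) == 0) &&
    uList.all fun x => conjC sC (extU im (conjC sC x)) == conjC f (extU im (extU im x)))

/-- The solutions fixing the normal elementary group. -/
def autB : List (List ℕ) := [[59, 12, 50], [59, 63, 50], [59, 117, 50], [59, 144, 50], [177, 12, 49], [177, 63, 49], [177, 117, 49], 
    [177, 144, 49]]

/-- The other solutions. -/
def autA : List (List ℕ) := [[59, 21, 50], [59, 91, 50], [59, 148, 50], [59, 191, 50], [177, 21, 49], [177, 91, 49], [177, 148, 49], 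
    [177, 191, 49]]

/-- Reductions to the chosen automorphism: a triple, an element inverting, a relabelling, an exponent, an element
of the group and a fixed element. -/
def redTbl : List (List ℕ × ℕ × ℕ × ℕ × ℕ × ℕ) := [([177, 148, 49], 1, 0, 2, 0, 56), ([177, 148, 49], 136, 0, 2, 140, 56), ([177, 148, 49], 65, 0, 2, 0, 0), 
    ([177, 148, 49], 142, 0, 2, 140, 0), ([177, 91, 49], 47, 0, 2, 177, 56), 
    ([177, 91, 49], 19, 0, 2, 40, 56), ([177, 91, 49], 14, 0, 2, 177, 0), ([177, 91, 49], 189, 0, 2, 40, 0), 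
    ([177, 21, 49], 1, 0, 2, 104, 56), ([177, 21, 49], 136, 0, 2, 148, 56), 
    ([177, 21, 49], 65, 0, 2, 148, 0), ([177, 21, 49], 142, 0, 2, 104, 0), 
    ([177, 191, 49], 47, 0, 2, 50, 56), ([177, 191, 49], 19, 0, 2, 3, 56), ([177, 191, 49], 14, 0, 2, 3, 0), 
    ([177, 191, 49], 189, 0, 2, 50, 0), ([59, 148, 50], 47, 1, 2, 50, 56), ([59, 148, 50], 19, 1, 2, 3, 56), 
    ([59, 148, 50], 14, 1, 2, 3, 0), ([59, 148, 50], 189, 1, 2, 50, 0), ([59, 91, 50], 1, 1, 2, 104, 56), 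
    ([59, 91, 50], 136, 1, 2, 148, 56), ([59, 91, 50], 65, 1, 2, 148, 0), ([59, 91, 50], 142, 1, 2, 104, 0), 
    ([59, 21, 50], 47, 1, 2, 177, 56), ([59, 21, 50], 19, 1, 2, 40, 56), ([59, 21, 50], 14, 1, 2, 177, 0), 
    ([59, 21, 50], 189, 1, 2, 40, 0), ([59, 191, 50], 1, 1, 2, 0, 56), ([59, 191, 50], 136, 1, 2, 140, 56), 
    ([59, 191, 50], 65, 1, 2, 0, 0), ([59, 191, 50], 142, 1, 2, 140, 0)]

/-- The chosen automorphism. -/
def tabA : List ℕ := [0, 0, 0, 144, 0, 0, 0, 0, 0, 0, 0, 0, 91, 0, 0, 0, 0, 0, 0, 0, 0, 146, 0, 0, 0, 0, 50, 0, 0, 0, 0, 0, 0, 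
    0, 0, 0, 49, 0, 0, 0, 36, 0, 0, 0, 0, 0, 0, 0, 0, 40, 59, 0, 0, 0, 0, 0, 56, 0, 0, 26, 0, 0, 0, 191, 0, 
    0, 0, 0, 0, 0, 0, 0, 0, 0, 0, 0, 0, 0, 0, 0, 140, 0, 0, 0, 0, 0, 0, 0, 0, 0, 0, 124, 0, 0, 0, 0, 0, 0, 0, 
    0, 0, 0, 0, 0, 158, 175, 0, 0, 0, 0, 0, 0, 0, 0, 63, 0, 0, 21, 0, 0, 80, 0, 0, 0, 12, 0, 0, 0, 0, 0, 0, 
    0, 0, 0, 0, 0, 0, 0, 0, 0, 120, 0, 0, 0, 148, 0, 117, 0, 3, 0, 0, 0, 0, 0, 0, 161, 0, 0, 177, 0, 0, 181, 
    0, 0, 0, 0, 0, 0, 0, 0, 0, 0, 0, 0, 0, 188, 0, 104, 0, 0, 0, 155, 0, 0, 0, 0, 0, 0, 105, 0, 0, 114]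

/-- Two automorphisms of the model. -/
def relabel : List (List ℕ) := [[0, 1, 2, 3, 4, 5, 6, 7, 8, 9, 10, 11, 12, 13, 14, 15, 16, 17, 18, 19, 20, 21, 22, 23, 24, 25, 26, 27, 28, 
    29, 30, 31, 32, 33, 34, 35, 36, 37, 38, 39, 40, 41, 42, 43, 44, 45, 46, 47, 48, 49, 50, 51, 52, 53, 54, 
    55, 56, 57, 58, 59, 60, 61, 62, 63, 64, 65, 66, 67, 68, 69, 70, 71, 72, 73, 74, 75, 76, 77, 78, 79, 80, 
    81, 82, 83, 84, 85, 86, 87, 88, 89, 90, 91, 92, 93, 94, 95, 96, 97, 98, 99, 100, 101, 102, 103, 104, 105, 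
    106, 107, 108, 109, 110, 111, 112, 113, 114, 115, 116, 117, 118, 119, 120, 121, 122, 123, 124, 125, 126, 
    127, 128, 129, 130, 131, 132, 133, 134, 135, 136, 137, 138, 139, 140, 141, 142, 143, 144, 145, 146, 147, 
    148, 149, 150, 151, 152, 153, 154, 155, 156, 157, 158, 159, 160, 161, 162, 163, 164, 165, 166, 167, 168, 
    169, 170, 171, 172, 173, 174, 175, 176, 177, 178, 179, 180, 181, 182, 183, 184, 185, 186, 187, 188, 189, 
    190, 191],
  [0, 1, 187, 114, 173, 97, 164, 7, 78, 9, 180, 11, 63, 13, 14, 15, 16, 186, 18, 19, 20, 21, 22, 23, 172, 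
    25, 26, 27, 190, 29, 163, 160, 84, 176, 34, 153, 36, 77, 178, 166, 188, 41, 170, 103, 162, 45, 134, 47, 
    62, 158, 175, 51, 109, 55, 147, 53, 56, 57, 58, 177, 102, 61, 48, 12, 112, 65, 128, 156, 68, 92, 71, 70, 
    72, 73, 157, 82, 76, 37, 8, 95, 80, 81, 75, 83, 32, 85, 86, 87, 88, 89, 90, 91, 69, 93, 94, 79, 96, 5, 
    98, 99, 100, 101, 60, 43, 104, 105, 106, 107, 108, 52, 110, 111, 64, 113, 3, 115, 116, 144, 118, 125, 
    120, 121, 169, 123, 146, 119, 126, 139, 66, 129, 151, 131, 149, 133, 46, 135, 136, 184, 138, 127, 140, 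
    141, 142, 143, 117, 145, 124, 54, 148, 132, 150, 130, 152, 35, 154, 155, 67, 74, 49, 159, 31, 161, 44, 
    30, 6, 165, 39, 167, 168, 122, 42, 171, 24, 4, 174, 50, 33, 59, 38, 179, 10, 181, 182, 183, 137, 185, 17, 
    2, 40, 189, 28, 191]]

/-- Their inverses. -/
def relabelInv : List (List ℕ) := [[0, 1, 2, 3, 4, 5, 6, 7, 8, 9, 10, 11, 12, 13, 14, 15, 16, 17, 18, 19, 20, 21, 22, 23, 24, 25, 26, 27, 28, 
    29, 30, 31, 32, 33, 34, 35, 36, 37, 38, 39, 40, 41, 42, 43, 44, 45, 46, 47, 48, 49, 50, 51, 52, 53, 54, 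
    55, 56, 57, 58, 59, 60, 61, 62, 63, 64, 65, 66, 67, 68, 69, 70, 71, 72, 73, 74, 75, 76, 77, 78, 79, 80, 
    81, 82, 83, 84, 85, 86, 87, 88, 89, 90, 91, 92, 93, 94, 95, 96, 97, 98, 99, 100, 101, 102, 103, 104, 105, 
    106, 107, 108, 109, 110, 111, 112, 113, 114, 115, 116, 117, 118, 119, 120, 121, 122, 123, 124, 125, 126, 
    127, 128, 129, 130, 131, 132, 133, 134, 135, 136, 137, 138, 139, 140, 141, 142, 143, 144, 145, 146, 147, 
    148, 149, 150, 151, 152, 153, 154, 155, 156, 157, 158, 159, 160, 161, 162, 163, 164, 165, 166, 167, 168, 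
    169, 170, 171, 172, 173, 174, 175, 176, 177, 178, 179, 180, 181, 182, 183, 184, 185, 186, 187, 188, 189, 
    190, 191],
  [0, 1, 187, 114, 173, 97, 164, 7, 78, 9, 180, 11, 63, 13, 14, 15, 16, 186, 18, 19, 20, 21, 22, 23, 172, 
    25, 26, 27, 190, 29, 163, 160, 84, 176, 34, 153, 36, 77, 178, 166, 188, 41, 170, 103, 162, 45, 134, 47, 
    62, 158, 175, 51, 109, 55, 147, 53, 56, 57, 58, 177, 102, 61, 48, 12, 112, 65, 128, 156, 68, 92, 71, 70, 
    72, 73, 157, 82, 76, 37, 8, 95, 80, 81, 75, 83, 32, 85, 86, 87, 88, 89, 90, 91, 69, 93, 94, 79, 96, 5, 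
    98, 99, 100, 101, 60, 43, 104, 105, 106, 107, 108, 52, 110, 111, 64, 113, 3, 115, 116, 144, 118, 125, 
    120, 121, 169, 123, 146, 119, 126, 139, 66, 129, 151, 131, 149, 133, 46, 135, 136, 184, 138, 127, 140, 
    141, 142, 143, 117, 145, 124, 54, 148, 132, 150, 130, 152, 35, 154, 155, 67, 74, 49, 159, 31, 161, 44, 
    30, 6, 165, 39, 167, 168, 122, 42, 171, 24, 4, 174, 50, 33, 59, 38, 179, 10, 181, 182, 183, 137, 185, 17, 
    2, 40, 189, 28, 191]]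

end CfsgLib.Spor.MTwelveCent
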