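import Cfsg.Agent.Lib.Spor.MTwelveCent.Data
import Cfsg.Agent.Lib.Spor.UFourType.Data
import Mathlib.GroupTheory.Sylow
import Mathlib.Algebra.Group.Conj

/-!
# Groups with such a centralizer of an involution
-/

set_option autoImplicit false
set_option linter.unusedSectionVars false
set_option maxRecDepth 20000

namespace CfsgLib.Spor.MTwelveCent

open Subgroup

/-- The centralizer of the involution with its coordinates. -/
structure Model {G : Type*} [Group G] (z : G) (ψ : ℕ → G) : Prop where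
  ord : orderOf z = 2
  mem : ∀ c < 192, ψ c ∈ centralizer ({z} : Set G)
  mul : ∀ c < 192, ∀ d < 192, ψ c * ψ d = ψ (mC c d)
  inj : ∀ c < 192, ∀ d < 192, ψ c = ψ d → c = d
  surj : ∀ g ∈ centralizer ({z} : Set G), ∃ c < 192, ψ c = g
  at_z : ψ zC = z

/-- A list of codes closed under the operations. -/
def Closed (L : List ℕ) : Prop :=
  0 ∈ L ∧ ∀ c ∈ L, c < 192 ∧ invC c ∈ L ∧ ∀ d ∈ L, mC c d ∈ L

noncomputable instance (L : List ℕ) : Decidable (Closed L) := inferInstanceAs (Decidable (_ ∧ _))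

theorem mC_lt : ∀ c < 192, ∀ d < 192, mC c d < 192 := by decide +kernel

theorem invC_spec : ∀ c < 192, invC c < 192 ∧ mC c (invC c) = 0 ∧ mC (invC c) c = 0 := by decide +kernel

theorem conjC_lt {g c : ℕ} (hg : g < 192) (hc : c < 192) : conjC g c < 192 :=
  mC_lt _ (mC_lt _ hg _ hc) _ (invC_spec g hg).1

theorem zero_mC : mC 0 0 = 0 := by decide +kernel

theorem invList_spec : ∀ c < 192, (mC c c = 0 ↔ c = 0 ∨ c ∈ invList) := by decide +kernel

theorem invList_lt : ∀ c ∈ invList, c < 192 ∧ c ≠ 0 := by decide +kernel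

theorem zC_central : ∀ c < 192, mC c zC = mC zC c := by decide +kernel

theorem center_eq : ∀ c < 192, (∀ d ∈ gCodes, commC c d = true) → c = 0 ∨ c = zC := by decide +kernel

namespace Model

variable {G : Type*} [Group G] {z : G} {ψ : ℕ → G} (M : Model z ψ)
include M

theorem one : ψ 0 = 1 := by
  have h := M.mul 0 (by norm_num) 0 (by norm_num)
  rw [zero_mC] at h
  exact mul_eq_left.1 h

theorem eq_one_iff {c : ℕ} (hc : c < 192) : ψ c = 1 ↔ c = 0 :=
  ⟨fun h => M.inj c hc 0 (by norm_num) (h.trans M.one.symm), fun h => h ▸ M.one⟩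

theorem inv {c : ℕ} (hc : c < 192) : (ψ c)⁻¹ = ψ (invC c) := by
  obtain ⟨l, h, -⟩ := invC_spec c hc
  exact inv_eq_of_mul_eq_one_right (by rw [M.mul c hc _ l, h, M.one])

theorem conj {g c : ℕ} (hg : g < 192) (hc : c < 192) : ψ g * ψ c * (ψ g)⁻¹ = ψ (conjC g c) := by
  rw [M.inv hg, M.mul g hg c hc, M.mul _ (mC_lt _ hg _ hc) _ (invC_spec g hg).1]
  rfl

theorem isConj_of {g c d : ℕ} (hg : g < 192) (hc : c < 192) (e : conjC g c = d) : IsConj (ψ c) (ψ d) :=
  isConj_iff.2 ⟨ψ g, by rw [M.conj hg hc, e]⟩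

theorem comm_iff {c d : ℕ} (hc : c < 192) (hd : d < 192) : ψ c * ψ d = ψ d * ψ c ↔ commC c d = true := by
  rw [M.mul c hc d hd, M.mul d hd c hc, commC, beq_iff_eq]
  exact ⟨fun h => M.inj _ (mC_lt _ hc _ hd) _ (mC_lt _ hd _ hc) h, fun h => h ▸ rfl⟩

theorem z_ne : z ≠ 1 := fun h => by simpa [h] using M.ord

theorem zz : z * z = 1 := by rw [← sq, ← M.ord, pow_orderOf_eq_one]

theorem comm_z {c : ℕ} (hc : c < 192) : ψ c * z = z * ψ c := by
  rw [← M.at_z, M.mul c hc _ (by norm_num), M.mul _ (by norm_num) c hc, zC_central c hc]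

theorem eq_z_iff {c : ℕ} (hc : c < 192) : ψ c = z ↔ c = zC :=
  ⟨fun h => M.inj c hc zC (by norm_num) (h.trans M.at_z.symm), fun h => h ▸ M.at_z⟩

theorem code_of_comm {g : G} (h : g * z = z * g) : ∃ c < 192, ψ c = g :=
  M.surj g (mem_centralizer_singleton_iff.2 h)

theorem code_ne {c : ℕ} (hc : c ∈ invList) : ψ c ≠ 1 ∧ ψ c * ψ c = 1 := by
  obtain ⟨l, h0⟩ := invList_lt c hc
  refine ⟨fun h => h0 ((M.eq_one_iff l).1 h), ?_⟩
  rw [M.mul c l c l, (invList_spec c l).2 (Or.inr hc), M.one]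

theorem inv_code {x : G} (h : x * z = z * x) (hx : x * x = 1) (hx1 : x ≠ 1) : ∃ c ∈ invList, ψ c = x := by
  obtain ⟨c, hc, rfl⟩ := M.code_of_comm h
  rw [M.mul c hc c hc, M.eq_one_iff (mC_lt _ hc _ hc)] at hx
  rcases (invList_spec c hc).1 hx with rfl | h'
  · exact absurd M.one hx1
  · exact ⟨c, h', rfl⟩

theorem card : Nat.card (centralizer ({z} : Set G)) = 192 := by
  let f : Fin 192 → centralizer ({z} : Set G) := fun c => ⟨ψ c, M.mem c c.isLt⟩
  have hf : Function.Bijective f := by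
    refine ⟨fun c d e => Fin.ext (M.inj c c.isLt d d.isLt (congrArg Subtype.val e)), fun g => ?_⟩
    obtain ⟨c, hc, e⟩ := M.surj g g.2
    exact ⟨⟨c, hc⟩, Subtype.ext e⟩
  rw [← Nat.card_eq_of_bijective f hf, Nat.card_fin]

/-- The subgroup of a closed list of codes. -/
def sub (L : List ℕ) (hL : Closed L) : Subgroup G where
  carrier := ψ '' {c | c ∈ L}
  one_mem' := ⟨0, hL.1, M.one⟩
  mul_mem' := by
    rintro _ _ ⟨c, hc, rfl⟩ ⟨d, hd, rfl⟩
    exact ⟨mC c d, (hL.2 c hc).2.2 d hd, (M.mul c (hL.2 c hc).1 d (hL.2 d hd).1).symm⟩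
  inv_mem' := by
    rintro _ ⟨c, hc, rfl⟩
    exact ⟨invC c, (hL.2 c hc).2.1, (M.inv (hL.2 c hc).1).symm⟩

theorem mem_sub {L : List ℕ} (hL : Closed L) {g : G} : g ∈ M.sub L hL ↔ ∃ c ∈ L, ψ c = g := Iff.rfl

theorem code_mem_sub {L : List ℕ} (hL : Closed L) {c : ℕ} (hc : c < 192) : ψ c ∈ M.sub L hL ↔ c ∈ L :=
  ⟨fun ⟨d, hd, e⟩ => M.inj d (hL.2 d hd).1 c hc e ▸ hd, fun h => ⟨c, h, rfl⟩⟩

theorem card_sub (L : List ℕ) (hL : Closed L) (hn : L.Nodup) : Nat.card (M.sub L hL) = L.length := by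
  classical
  let f : {c // c ∈ L.toFinset} → M.sub L hL := fun c => ⟨ψ c, c, List.mem_toFinset.1 c.2, rfl⟩
  have hf : Function.Bijective f := by
    refine ⟨fun c d e => Subtype.ext (M.inj c (hL.2 c (List.mem_toFinset.1 c.2)).1 d
      (hL.2 d (List.mem_toFinset.1 d.2)).1 (congrArg Subtype.val e)), fun g => ?_⟩
    obtain ⟨c, hc, e⟩ := g.2
    exact ⟨⟨c, List.mem_toFinset.2 hc⟩, Subtype.ext e⟩
  rw [← Nat.card_eq_of_bijective f hf, Nat.card_eq_fintype_card, Fintype.card_coe, List.toFinset_card_of_nodup hn]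

end Model

end CfsgLib.Spor.MTwelveCent
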