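import Cfsg.Prelude.Def_SporadicB
import Cfsg.Agent.Lib.Spor.MTwelveCent.Model
import Cfsg.Agent.Lib.Spor.MTwelveCent.RealData
import Cfsg.Agent.Lib.Spor.SylowTwoCert
import Cfsg.Agent.Lib.Spor.SylowTwoMathieu
import Cfsg.Agent.Lib.Spor.MathieuSimple
import Cfsg.Agent.Lib.Invol.TwoClasses

/-!
# The centralizer of a central involution of the Mathieu group of degree twelve has the model
-/

set_option autoImplicit false
set_option linter.unusedSectionVars false
set_option maxRecDepth 100000

namespace CfsgLib.Spor.MTwelveCent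

open Cfsg Subgroup
open scoped Pointwise

/-- The packed permutation of a code. -/
def pCode (c : ℕ) : ℕ := permList.getD c 0

/-- A normalized packed element of the Mathieu group. -/
def okP (g : ℕ) : Bool := isPermCode g && (permMulCode g idPacked == g)

theorem permList_ok : ∀ c < 192, okP (pCode c) = true := by decide +kernel

theorem permList_mul : ∀ c < 192, ∀ g ∈ gCodes, permMulCode (pCode c) (pCode g) = pCode (mC c g) := by
  decide +kernel

theorem permList_nodup : ((List.range 192).map pCode).Nodup := by decide +kernel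

theorem permList_zero : pCode 0 = idPacked := by decide +kernel

theorem mC_assoc_gen : ∀ c < 192, ∀ d < 192, ∀ g ∈ gCodes, mC c (mC d g) = mC (mC c d) g := by decide +kernel

theorem gens_inM12 : (gCodes.all fun g => inM12 (pCode g)) = true ∧
    ((List.range 3).all fun i => inM12 (genPerms.getD i 0)) = true := by decide +kernel

theorem mC_zero : ∀ c < 192, mC c 0 = c ∧ mC 0 c = c := by decide +kernel

/-- Each code has a short word. -/
theorem gen_reach : ∀ d < 192, d ≠ 0 → ∃ g ∈ gCodes, (mC d g < d) ∧ mC (mC d g) g = d := by decide +kernel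

theorem gCodes_lt : ∀ g ∈ gCodes, g < 192 := by decide +kernel

theorem genPerms_ok : ∀ i < 3, okP (genPerms.getD i 0) = true := by decide +kernel

/-- The test for the tree of conjugates. -/
def treeOK (i : ℕ) : Bool :=
  let e := classTree.getD i (0, 0, 0)
  okP e.1 && (decide (e.2.2 < 3) && (if i == 0 then e.1 == pCode zC else decide (e.2.1 < i) &&
    (permMulCode (genPerms.getD e.2.2 0) (classTree.getD e.2.1 (0, 0, 0)).1
      == permMulCode e.1 (genPerms.getD e.2.2 0))))

theorem tree_ok : ∀ i < 495, treeOK i = true := by decide +kernel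

theorem tree_nodup : classTree.length = 495 ∧ (classTree.map Prod.fst).Nodup := by decide +kernel

theorem okP_spec {g : ℕ} (h : okP g = true) : isPermCode g = true ∧ permMulCode g idPacked = g := by
  simpa [okP] using h

theorem pCode_mem : ∀ c, c < 192 → permOf (pCode c) ∈ Spor.M12 := by
  intro c
  induction c using Nat.strong_induction_on with
  | _ c ih =>
    intro hc
    by_cases h0 : c = 0
    · rw [h0, permList_zero, permOf_idPacked]; exact one_mem _
    · obtain ⟨g, hg, hlt, e⟩ := gen_reach c hc h0
      have hg' := gCodes_lt g hg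
      have hd := mC_lt c hc g hg'
      rw [← e, ← permOf_permMulCode (okP_spec (permList_ok _ hd)).1 (okP_spec (permList_ok g hg')).1
        (okP_spec (permList_ok _ (mC_lt _ hd g hg'))).1 (permList_mul _ hd g hg)]
      exact mul_mem (ih _ hlt hd) (m12_sound (List.all_eq_true.1 gens_inM12.1 g hg)).2

theorem genPerms_mem {i : ℕ} (hi : i < 3) : permOf (genPerms.getD i 0) ∈ Spor.M12 :=
  (m12_sound (List.all_eq_true.1 gens_inM12.2 i (List.mem_range.2 hi))).2

open scoped Classical in
/-- The element of a packed permutation. -/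
noncomputable def mElt (g : ℕ) : ↥Spor.M12 := if h : permOf g ∈ Spor.M12 then ⟨permOf g, h⟩ else 1

theorem mElt_val {g : ℕ} (h : permOf g ∈ Spor.M12) : (mElt g : Equiv.Perm GolayPt) = permOf g := by
  simp [mElt, h]

theorem mElt_inj {a b : ℕ} (ha : okP a = true) (hb : okP b = true) (ma : permOf a ∈ Spor.M12)
    (mb : permOf b ∈ Spor.M12) (h : mElt a = mElt b) : a = b := by
  have e : permOf a = permOf b := by rw [← mElt_val ma, h, mElt_val mb]
  obtain ⟨pa, na⟩ := okP_spec ha
  obtain ⟨pb, nb⟩ := okP_spec hb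
  have hid : isPermCode idPacked = true := by decide +kernel
  rw [← na, ← nb, permMulCode_eq_iff pa hid pb hid, e]

theorem mElt_mul {a b c : ℕ} (ha : okP a = true) (hb : okP b = true) (hc : okP c = true)
    (ma : permOf a ∈ Spor.M12) (mb : permOf b ∈ Spor.M12) (h : permMulCode a b = c) :
    mElt a * mElt b = mElt c := by
  have e := permOf_permMulCode (okP_spec ha).1 (okP_spec hb).1 (okP_spec hc).1 h
  refine Subtype.ext ?_
  rw [Subgroup.coe_mul, mElt_val ma, mElt_val mb, mElt_val (e ▸ mul_mem ma mb), e]

theorem mElt_id : mElt idPacked = 1 := by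
  refine Subtype.ext ?_
  rw [mElt_val (by rw [permOf_idPacked]; exact one_mem _), permOf_idPacked]
  rfl

/-- The element of a code. -/
noncomputable def psi₀ (c : ℕ) : ↥Spor.M12 := mElt (pCode c)

theorem psi₀_mul {c d : ℕ} (hc : c < 192) (hd : d < 192) : psi₀ c * psi₀ d = psi₀ (mC c d) := by
  induction d using Nat.strong_induction_on with
  | _ d ih =>
    by_cases h0 : d = 0
    · subst h0
      rw [psi₀, psi₀, psi₀, permList_zero, mElt_id, mul_one, (mC_zero c hc).1]
    · obtain ⟨g, hg, hlt, e⟩ := gen_reach d hd h0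
      have hg' := gCodes_lt g hg
      have hd' := mC_lt d hd g hg'
      have step : ∀ x, x < 192 → psi₀ x * psi₀ g = psi₀ (mC x g) := fun x hx =>
        mElt_mul (permList_ok x hx) (permList_ok g hg') (permList_ok _ (mC_lt x hx g hg')) (pCode_mem x hx)
          (pCode_mem g hg') (permList_mul x hx g hg)
      calc psi₀ c * psi₀ d = psi₀ c * (psi₀ (mC d g) * psi₀ g) := by rw [step _ hd', e]
        _ = psi₀ (mC c (mC d g)) * psi₀ g := by rw [← mul_assoc, ih _ hlt hd']
        _ = psi₀ (mC c d) := by
          rw [step _ (mC_lt c hc _ hd'), ← mC_assoc_gen c hc _ hd' g hg, e]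

theorem psi_code_lt : zC < 192 := by decide

theorem card_class_ge : 495 ≤ Nat.card {y : ↥Spor.M12 // IsConj (psi₀ zC) y} := by
  have key : ∀ i < 495, okP (classTree.getD i (0, 0, 0)).1 = true ∧
      permOf (classTree.getD i (0, 0, 0)).1 ∈ Spor.M12 ∧
      IsConj (psi₀ zC) (mElt (classTree.getD i (0, 0, 0)).1) := by
    intro i
    induction i using Nat.strong_induction_on with
    | _ i ih =>
      intro hi
      have h := tree_ok i hi
      simp only [treeOK, Bool.and_eq_true, decide_eq_true_eq] at h
      obtain ⟨h1, h2, h3⟩ := h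
      refine ⟨h1, ?_⟩
      by_cases h0 : i = 0
      · subst h0
        simp only [beq_self_eq_true, if_true, beq_iff_eq] at h3
        rw [h3]; exact ⟨pCode_mem _ psi_code_lt, IsConj.refl _⟩
      · rw [if_neg (by simpa using h0), Bool.and_eq_true, decide_eq_true_eq, beq_iff_eq] at h3
        obtain ⟨hp, e⟩ := h3
        obtain ⟨hok, hmem, hconj⟩ := ih _ hp (hp.trans hi)
        have g1 := genPerms_ok _ h2
        have m1 := genPerms_mem h2
        have e' := (permMulCode_eq_iff (okP_spec g1).1 (okP_spec hok).1 (okP_spec h1).1 (okP_spec g1).1).1 e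
        have m2 : permOf (classTree.getD i (0, 0, 0)).1 ∈ Spor.M12 :=
          (mul_mem_cancel_right m1).1 (e' ▸ mul_mem m1 hmem)
        refine ⟨m2, hconj.trans (isConj_iff.2 ⟨mElt (genPerms.getD (classTree.getD i (0, 0, 0)).2.2 0), ?_⟩)⟩
        refine mul_inv_eq_iff_eq_mul.2 (Subtype.ext ?_)
        rw [Subgroup.coe_mul, Subgroup.coe_mul, mElt_val m1, mElt_val m2, mElt_val hmem]
        exact e'
  rw [← Nat.card_fin 495]
  refine Nat.card_le_card_of_injective (fun i : Fin 495 => ⟨_, (key i i.2).2.2⟩) fun i j e => Fin.ext ?_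
  have h := mElt_inj (key i i.2).1 (key j j.2).1 (key i i.2).2.1 (key j j.2).2.1 (congrArg Subtype.val e)
  have hi : (i : ℕ) < (classTree.map Prod.fst).length := by rw [List.length_map, tree_nodup.1]; exact i.2
  have hj : (j : ℕ) < (classTree.map Prod.fst).length := by rw [List.length_map, tree_nodup.1]; exact j.2
  refine (tree_nodup.2.getElem_inj_iff (hi := hi) (hj := hj)).1 ?_
  rw [List.getElem_map, List.getElem_map, ← List.getD_eq_getElem (d := (0, 0, 0)), ← List.getD_eq_getElem (d := (0, 0, 0))]
  exact h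

theorem isSimpleGroup_mTwelve : IsSimpleGroup ↥Spor.M12 := by
  haveI := isSimpleGroup_stabilizer_dodecad squareDodecad_mem
  have e : (MulAction.stabilizer M24 Spor.squareDodecad).map M24.subtype = Spor.M12 := by
    ext g
    rw [mem_map_stabilizer]
    exact Iff.rfl
  exact (((Subgroup.equivMapOfInjective _ _ M24.subtype_injective).trans (MulEquiv.subgroupCongr e)).symm).isSimpleGroup

theorem psi_code_facts : zC < 192 ∧ mC zC zC = 0 := by decide +kernel

theorem psi₀_one : psi₀ 0 = 1 := by rw [psi₀, permList_zero, mElt_id]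

theorem psi₀_inj {c d : ℕ} (hc : c < 192) (hd : d < 192) (h : psi₀ c = psi₀ d) : c = d := by
  have e := mElt_inj (permList_ok c hc) (permList_ok d hd) (pCode_mem c hc) (pCode_mem d hd) h
  have hn := permList_nodup
  rw [List.Nodup, List.pairwise_iff_getElem] at hn
  by_contra hne
  rcases Nat.lt_or_gt_of_ne hne with hlt | hlt
  · exact hn c d (by simp [hc]) (by simp [hd]) hlt (by simpa using e)
  · exact hn d c (by simp [hd]) (by simp [hc]) hlt (by simpa using e.symm)

/-- The model inside the Mathieu group. -/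
theorem mTwelveModel : Model (psi₀ zC) psi₀ := by
  obtain ⟨hz, hzz⟩ := psi_code_facts
  have hne : psi₀ zC ≠ 1 := fun h => by
    have := psi₀_inj hz (by norm_num) (h.trans psi₀_one.symm)
    norm_num at this
  have hord : orderOf (psi₀ zC) = 2 := orderOf_eq_prime (by rw [sq, psi₀_mul hz hz, hzz, psi₀_one]) hne
  have hmem : ∀ c < 192, psi₀ c ∈ centralizer ({psi₀ zC} : Set ↥Spor.M12) := fun c hc => by
    rw [mem_centralizer_singleton_iff, psi₀_mul hc hz, psi₀_mul hz hc, zC_central c hc]
  refine ⟨hord, hmem, fun c hc d hd => psi₀_mul hc hd, fun c hc d hd h => psi₀_inj hc hd h, ?_, rfl⟩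
  intro g hg
  have h := Invol.card_isConj_mul (psi₀ zC)
  rw [card_sporM12] at h
  have hle : Nat.card (centralizer ({psi₀ zC} : Set ↥Spor.M12)) ≤ 192 := by
    by_contra hlt
    have := Nat.mul_le_mul card_class_ge (Nat.succ_le_of_lt (Nat.lt_of_not_le hlt))
    omega
  let f : Fin 192 → centralizer ({psi₀ zC} : Set ↥Spor.M12) := fun c => ⟨psi₀ c, hmem c c.2⟩
  have hf : Function.Injective f := fun c d e => Fin.ext (psi₀_inj c.2 d.2 (congrArg Subtype.val e))
  obtain ⟨c, e⟩ := (hf.bijective_of_nat_card_le (by rw [Nat.card_fin]; exact hle)).2 ⟨g, hg⟩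
  exact ⟨c, c.2, congrArg Subtype.val e⟩

end CfsgLib.Spor.MTwelveCent
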