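import Cfsg.Agent.Lib.Spor.MTwelveCent.Alpha
import Cfsg.Agent.Lib.Spor.MTwelveCent.Real

/-!
# Checks on the automorphisms
-/

set_option autoImplicit false
set_option maxRecDepth 100000

namespace CfsgLib.Spor.MTwelveCent

/-- Whether a triple is excluded or listed. -/
noncomputable def tripleOK (im : List ℕ) : Bool :=
  !(validAut im && uList.any fun f => flipOK im f) || (autB.contains im || autA.contains im)

theorem triple_all : (uList.all fun a => uList.all fun b => uList.all fun c => tripleOK [a, b, c]) = true := by
  decide +kernel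

/-- The entry for an element inverting. -/
noncomputable def redOK (q : List ℕ × ℕ × ℕ × ℕ × ℕ × ℕ) : Bool :=
  let im := q.1
  let m := relabel.getD q.2.2.1 []
  let f := q.2.2.2.2.1
  let c := q.2.2.2.2.2
  let a1 := fun x => conjC f (if q.2.2.2.1 == 1 then extU im (conjC (invC f) x)
    else extU im (extU im (conjC (invC f) x)))
  (decide (q.2.2.1 < 2) && (decide (q.2.2.2.1 = 1 ∨ q.2.2.2.1 = 2) && (uList.contains f && uList.contains c))) &&
    ((a1 c == c) && ((m.getD (mC (conjC f q.2.1) c) 0 == sC) &&
      uList.all fun x => uList.contains (m.getD x 0) && (tabA.getD (m.getD x 0) 0 == m.getD (a1 x) 0)))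

theorem red_all : redTbl.all redOK = true := by decide +kernel

/-- An element of order three inverted after adjusting. -/
noncomputable def coverOK (im : List ℕ) : Bool :=
  uList.all fun f => !flipOK im f || uList.any fun e =>
    (mC (mC e f) (extU im (extU im (invC e))) == 0) && redTbl.any fun q => (q.1 == im) && (q.2.1 == mC e sC)

theorem cover_all : autA.all coverOK = true := by decide +kernel

/-- An involution of the other class leaving the radical. -/
noncomputable def moveOK (im : List ℕ) : Bool :=
  (eList.all fun x => eList.contains (extU im x)) &&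
    fList.all fun r => !rList.contains r || (sList.contains (extU im r) && sList.contains (extU im (extU im r)))

theorem move_all : autB.all moveOK = true := by decide +kernel

theorem relabel_facts : ∀ i < 2, (∀ c < 192, (relabel.getD i []).getD c 0 < 192 ∧
    (relabelInv.getD i []).getD c 0 < 192 ∧
    (relabelInv.getD i []).getD ((relabel.getD i []).getD c 0) 0 = c ∧
    (relabel.getD i []).getD ((relabelInv.getD i []).getD c 0) 0 = c) ∧
    (relabelInv.getD i []).getD zC 0 = zC ∧ (relabelInv.getD i []).getD pC 0 = pC := by decide +kernel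

theorem relabel_gen : ∀ i < 2, ∀ c < 192, ∀ g ∈ gCodes,
    (relabelInv.getD i []).getD (mC c g) 0 =
      mC ((relabelInv.getD i []).getD c 0) ((relabelInv.getD i []).getD g 0) := by decide +kernel

theorem relabel_zero : ∀ i < 2, (relabelInv.getD i []).getD 0 0 = 0 := by decide +kernel

theorem relabelInv_lt {i c : ℕ} (hi : i < 2) (hc : c < 192) : (relabelInv.getD i []).getD c 0 < 192 :=
  ((relabel_facts i hi).1 c hc).2.1

theorem relabel_hom {G : Type*} [Group G] {z : G} {ψ : ℕ → G} (M : Model z ψ) {i : ℕ} (hi : i < 2) :
    ∀ d, d < 192 → ∀ c < 192, ψ ((relabelInv.getD i []).getD c 0) * ψ ((relabelInv.getD i []).getD d 0) =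
      ψ ((relabelInv.getD i []).getD (mC c d) 0) := by
  intro d
  induction d using Nat.strong_induction_on with
  | _ d ih =>
    intro hd c hc
    by_cases h0 : d = 0
    · subst h0
      rw [relabel_zero i hi, M.one, mul_one, (mC_zero c hc).1]
    · obtain ⟨g, hg, hlt, e⟩ := gen_reach d hd h0
      have hg' := gCodes_lt g hg
      have hd' := mC_lt d hd g hg'
      have step : ∀ x, x < 192 → ψ ((relabelInv.getD i []).getD x 0) * ψ ((relabelInv.getD i []).getD g 0) =
          ψ ((relabelInv.getD i []).getD (mC x g) 0) := fun x hx => by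
        rw [M.mul _ (relabelInv_lt hi hx) _ (relabelInv_lt hi hg'), relabel_gen i hi x hx g hg]
      rw [← e, ← step _ hd', ← mul_assoc, ih _ hlt hd' c hc, step _ (mC_lt c hc _ hd'),
        ← mC_assoc_gen c hc _ hd' g hg]

end CfsgLib.Spor.MTwelveCent
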