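import Cfsg.Agent.Lib.Spor.MTwelveCent.Classes
import Cfsg.Agent.Lib.Spor.MTwelveCent.Basics
import Cfsg.Agent.Lib.Fusion.Tate
import Cfsg.Agent.Lib.Invol.FourCentralizer

/-!
# The centralizer of an involution of the second class
-/

set_option autoImplicit false
set_option linter.unusedSectionVars false
set_option maxRecDepth 100000

namespace CfsgLib.Spor.MTwelveCent

open Subgroup

/-- The four group in the centralizer of the second involution. -/
def fourList : List ℕ := [0, zC, pC, 161]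

/-- The four group times the involution. -/
def qaList : List ℕ := [0, 56, 80, 120, 140, 155, 161, 181]

/-- The four group extended by the inverting involution. -/
def qbList : List ℕ := [0, 65, 101, 116, 142, 155, 161, 181]

theorem vList_facts : vC ∈ invList ∧ (centList vC).length = 16 ∧ zC ∈ centList vC ∧ sC ∈ centList vC ∧
    vC ∈ centList vC ∧ pC ∈ centList vC ∧ 161 = mC zC pC ∧
    (∀ c ∈ fourList, c ∈ centList vC ∧ c < 192) ∧
    (∀ c ∈ centList vC, mC c c = 0 ∨ mC c c = zC) ∧ (∃ c ∈ centList vC, mC c c = zC) ∧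
    (∀ c ∈ centList vC, c ∈ zList → c ∈ fourList) ∧ (∀ c ∈ centList vC, commC c zC = true) ∧
    (∀ c ∈ centList vC, c ∈ fourList ∨
      ∃ f ∈ fourList, c = mC vC f ∨ c = mC sC f ∨ c = mC (mC sC vC) f) ∧
    mC sC sC = 0 ∧ sC ∈ rList ∧ mC sC vC ∈ rList ∧ mC sC vC ∈ centList vC := by decide +kernel

theorem qa_facts : Closed qaList ∧ qaList.Nodup ∧ qaList.length = 8 ∧ (∀ c ∈ qaList, c ∈ centList vC) ∧
    vC ∈ qaList ∧ ∀ c ∈ qaList, mC c c = 0 → c = 0 ∨ c ∈ [zC, pC, 161] ∨ c = vC ∨ mC vC c ∈ [zC, pC, 161] := by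
  decide +kernel

theorem qb_facts : Closed qbList ∧ qbList.Nodup ∧ qbList.length = 8 ∧ (∀ c ∈ qbList, c ∈ centList vC) ∧
    vC ∉ qbList := by decide +kernel

theorem four_inv : ∀ c ∈ [zC, pC, 161], c ∈ zList ∧ c < 192 := by decide +kernel

theorem tv_facts : mC vC sC ∈ rList ∧ mC vC (mC sC vC) ∈ rList := by decide +kernel

namespace CaseA

variable {G : Type*} [Group G] [Finite G] {z : G} {ψ : ℕ → G} {w : G}

section

variable (D : CaseA z ψ w)
include D

/-- Membership of a code in the centralizer of the second involution. -/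
theorem code_mem {c : ℕ} (hc : c ∈ centList vC) : ψ c ∈ centralizer ({ψ vC} : Set G) := by
  have hl := centList_lt vC vList_facts.1 c hc
  exact mem_centralizer_singleton_iff.2
    ((D.model.comm_iff hl (by norm_num)).2 ((centList_spec vC vList_facts.1 c hl).1 hc))

theorem w_mem : w ∈ centralizer ({ψ vC} : Set G) :=
  mem_centralizer_singleton_iff.2 (mul_inv_eq_iff_eq_mul.1 D.w_v)

/-- A member of a code. -/
def kElt {c : ℕ} (hc : c ∈ centList vC) : ↥(centralizer ({ψ vC} : Set G)) := ⟨ψ c, D.code_mem hc⟩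

theorem exists_sylow_v : ∃ P : Sylow 2 ↥(centralizer ({ψ vC} : Set G)), ∀ x : ↥(centralizer ({ψ vC} : Set G)),
    x ∈ (P : Subgroup _) ↔ ∃ c ∈ centList vC, ψ c = x.1 := by
  haveI : Fact (Nat.Prime 2) := ⟨Nat.prime_two⟩
  have M := D.model
  obtain ⟨hvi, hlen, hzc, -, -, -, -, -, hsq, ⟨q, hq, eq'⟩, -, hcommz, -⟩ := vList_facts
  set K := centralizer ({ψ vC} : Set G)
  set S := (M.sub (centList vC) (centList_closed M hvi)).subgroupOf K with hS
  have hle : M.sub (centList vC) (centList_closed M hvi) ≤ K := by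
    rintro _ ⟨c, hc, rfl⟩; exact D.code_mem hc
  have hcard : Nat.card S = 16 := by
    rw [hS, Nat.card_congr (subgroupOfEquivOfLe hle).toEquiv, M.card_sub _ _ (centList_nodup vC hvi), hlen]
  have hmemS : ∀ x : K, x ∈ S ↔ ∃ c ∈ centList vC, ψ c = x.1 := fun x => Iff.rfl
  have hp : IsPGroup 2 S := IsPGroup.of_card (n := 4) (by rw [hcard]; norm_num)
  obtain ⟨P, hP⟩ := hp.exists_le_sylow
  suffices e : (P : Subgroup K) = S from ⟨P, fun x => by rw [e]; exact hmemS x⟩
  by_contra hne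
  haveI := P.isPGroup'.isNilpotent
  have hlt : S.subgroupOf (P : Subgroup K) < ⊤ := by
    rw [lt_top_iff_ne_top, Ne, subgroupOf_eq_top]
    exact fun h => hne (le_antisymm h hP)
  obtain ⟨g, hgN, hgT⟩ :=
    SetLike.exists_of_lt (Group.normalizerCondition_of_isNilpotent (G := (P : Subgroup K)) _ hlt)
  rw [mem_subgroupOf] at hgT
  have hzK : ψ q ∈ K := D.code_mem hq
  have himg : ((g : K) * ⟨ψ q, hzK⟩ * (g : K)⁻¹) ∈ S := by
    have hqS : (⟨ψ q, hzK⟩ : K) ∈ S := (hmemS _).2 ⟨q, hq, rfl⟩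
    exact mem_subgroupOf.1 ((Subgroup.mem_normalizer_iff.1 hgN ⟨_, hP hqS⟩).1 (mem_subgroupOf.2 hqS))
  obtain ⟨c, hc, ec⟩ := (hmemS _).1 himg
  simp only [Subgroup.coe_mul, Subgroup.coe_inv] at ec
  have hql := centList_lt vC hvi q hq
  have hcl := centList_lt vC hvi c hc
  have hsqq : ψ q * ψ q = z := by rw [M.mul q hql q hql, eq', M.at_z]
  have hgz : ((g : K) : G) * z * ((g : K) : G)⁻¹ = z := by
    have e2 : ψ c * ψ c = ((g : K) : G) * z * ((g : K) : G)⁻¹ := by rw [ec, ← hsqq]; group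
    rcases hsq c hc with h | h <;> rw [M.mul c hcl c hcl, h] at e2
    · rw [M.one] at e2
      exact absurd (conj_eq_one_iff.1 e2.symm) M.z_ne
    · rw [← e2, M.at_z]
  obtain ⟨k, hk, ek⟩ := M.code_of_comm (mul_inv_eq_iff_eq_mul.1 hgz)
  refine hgT ((hmemS _).2 ⟨k, (centList_spec vC hvi k hk).2 ((M.comm_iff hk (by norm_num)).1 ?_), ek⟩)
  rw [ek]
  exact mem_centralizer_singleton_iff.1 (g : K).2

/-- A normal subgroup of index two contains the four group. -/
theorem four_mem_of_index_two {N : Subgroup ↥(centralizer ({ψ vC} : Set G))} [N.Normal] (hN : N.index = 2)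
    {c : ℕ} (hc : c ∈ fourList) : D.kElt (vList_facts.2.2.2.2.2.2.2.1 c hc).1 ∈ N := by
  have M := D.model
  obtain ⟨-, -, hzc, -, -, hpc, -, hF, -⟩ := vList_facts
  set W : ↥(centralizer ({ψ vC} : Set G)) := ⟨w, D.w_mem⟩
  have hW : W ∈ N := by
    have h : W = (W * W) * (W * W) := Subtype.ext (by
      show w = w * w * (w * w)
      rw [show w * w * (w * w) = w * w * w * w by group, D.cube, one_mul])
    rw [h]
    exact mul_self_mem_of_index_two hN (W * W)
  set Z := D.kElt hzc with hZ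
  have hp' : D.kElt hpc ∈ N := by
    have h : D.kElt hpc = Z * W * Z⁻¹ * W⁻¹ := Subtype.ext (by
      show ψ pC = ψ zC * w * (ψ zC)⁻¹ * w⁻¹
      rw [M.at_z, inv_eq_of_mul_eq_one_right M.zz, show z * w * z * w⁻¹ = z * (w * z * w⁻¹) by group, D.w_z,
        ← M.mul zC (by norm_num) pC (by norm_num), M.at_z, ← mul_assoc, M.zz, one_mul])
    rw [h]
    exact mul_mem ((inferInstance : N.Normal).conj_mem W hW Z) (inv_mem hW)
  have hz' : Z ∈ N := by
    have h : Z = W * D.kElt hpc * W⁻¹ := Subtype.ext (by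
      show ψ zC = w * ψ pC * w⁻¹
      rw [D.w_p, M.at_z])
    rw [h]
    exact (inferInstance : N.Normal).conj_mem _ hp' W
  simp only [fourList, List.mem_cons, List.not_mem_nil, or_false] at hc
  rcases hc with rfl | rfl | rfl | rfl
  · have h : D.kElt (hF 0 (by simp [fourList])).1 = 1 := Subtype.ext M.one
    convert one_mem N
  · exact hz'
  · exact hp'
  · have h : D.kElt (hF 161 (by simp [fourList])).1 = Z * D.kElt hpc := Subtype.ext (by
      show ψ 161 = ψ zC * ψ pC
      rw [M.mul _ (by norm_num) _ (by norm_num), ← vList_facts.2.2.2.2.2.2.1])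
    convert mul_mem hz' hp'

/-- A normal subgroup with intersection the four group and elementary abelian quotient of order four. -/
theorem exists_kernel : ∃ L : Subgroup ↥(centralizer ({ψ vC} : Set G)), L.Normal ∧
    (∀ c, (hc : c ∈ fourList) → D.kElt (vList_facts.2.2.2.2.2.2.2.1 c hc).1 ∈ L) ∧
    (∀ c, (hc : c ∈ centList vC) → D.kElt hc ∈ L → c ∈ fourList) ∧
    (∀ x, x * x ∈ L) := by
  classical
  have M := D.model
  obtain ⟨hvi, hlen, -, hsc, hvc, -, -, hF, -, -, -, -, hdec, hss, hsR, hsvR, hsv⟩ := vList_facts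
  set K := centralizer ({ψ vC} : Set G) with hK
  obtain ⟨P, hP⟩ : ∃ P : Sylow 2 K, ∀ x : K, x ∈ (P : Subgroup K) ↔ ∃ c ∈ centList vC, ψ c = x.1 :=
    D.exists_sylow_v
  have hPcard : Nat.card (P : Subgroup K) = 16 := by
    have e : (P : Subgroup K).map K.subtype = M.sub (centList vC) (centList_closed M hvi) := by
      ext x
      constructor
      · rintro ⟨y, hy, rfl⟩; exact (hP y).1 hy
      · rintro ⟨c, hc, rfl⟩; exact ⟨D.kElt hc, (hP _).2 ⟨c, hc, rfl⟩, rfl⟩
    rw [← card_map_of_injective K.subtype_injective, e, M.card_sub _ _ (centList_nodup vC hvi), hlen]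
  have step : ∀ (q : List ℕ) (hq : Closed q), q.Nodup → q.length = 8 → (∀ c ∈ q, c ∈ centList vC) →
      ∀ u, (hu : u ∈ centList vC) → mC u u = 0 → (∀ g : K, ∀ c ∈ q, ψ c ≠ g.1 * ψ u * (g.1)⁻¹) →
      ∃ N : Subgroup K, N.Normal ∧ N.index = 2 ∧ D.kElt hu ∉ N := by
    intro q hq hqn hql hsub u hu huu hno
    have hle : M.sub q hq ≤ K := by rintro _ ⟨c, hc, rfl⟩; exact D.code_mem (hsub c hc)
    set Q := (M.sub q hq).subgroupOf K with hQ
    have hQP : Q ≤ (P : Subgroup K) := by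
      rintro x ⟨c, hc, e⟩
      exact (hP x).2 ⟨c, hsub c hc, e⟩
    have hidx : Q.relIndex (P : Subgroup K) = 2 := by
      have h := relIndex_mul_relIndex ⊥ Q (P : Subgroup K) bot_le hQP
      rw [relIndex_bot_left, relIndex_bot_left, hPcard, hQ, Nat.card_congr (subgroupOfEquivOfLe hle).toEquiv,
        M.card_sub _ _ hqn, hql] at h
      rw [← hQ] at h; omega
    have hul := centList_lt vC hvi u hu
    refine CfsgLib.Fusion.thompson_transfer P hQP hidx (u := D.kElt hu) (Subtype.ext ?_) ?_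
    · show (D.kElt hu ^ 2).1 = 1
      rw [sq]
      show ψ u * ψ u = 1
      rw [M.mul u hul u hul, huu, M.one]
    · rintro g ⟨c, hc, e⟩
      exact hno g c hc e
  -- conjugates of the second class avoiding the subgroup of exponent two
  have avoidA : ∀ u, u ∈ centList vC → u ∈ rList → mC vC u ∈ rList → u ≠ vC →
      ∀ g : K, ∀ c ∈ qaList, ψ c ≠ g.1 * ψ u * (g.1)⁻¹ := by
    intro u hu huR hvuR hne g c hc e
    have hul := centList_lt vC hvi u hu
    have hcl := (qa_facts.1.2 c hc).1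
    have hconj : IsConj (ψ u) (ψ c) := isConj_iff.2 ⟨g.1, e.symm⟩
    obtain ⟨hu1, hu2⟩ := M.code_ne (list_mem.2.2.1 u huR)
    have hcc : mC c c = 0 := M.inj _ (mC_lt c hcl c hcl) 0 (by norm_num) (by
      rw [← M.mul c hcl c hcl, e, M.one, show g.1 * ψ u * (g.1)⁻¹ * (g.1 * ψ u * (g.1)⁻¹) =
        g.1 * (ψ u * ψ u) * (g.1)⁻¹ by group, hu2]; group)
    have hgv : g.1 * ψ vC * (g.1)⁻¹ = ψ vC :=
      mul_inv_eq_iff_eq_mul.2 (mem_centralizer_singleton_iff.1 g.2)
    rcases qa_facts.2.2.2.2.2 c hc hcc with rfl | h | rfl | h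
    · rw [M.one] at e
      exact hu1 (conj_eq_one_iff.1 e.symm)
    · exact M.not_isConj_r huR ((D.isConj_z (four_inv c h).1).trans hconj.symm)
    · exact hne (M.inj u hul vC (by norm_num) (mul_left_cancel (mul_right_cancel (e.symm.trans hgv.symm))))
    · refine M.not_isConj_r hvuR ((D.isConj_z (four_inv _ h).1).trans (isConj_iff.2 ⟨g.1, ?_⟩).symm)
      rw [← M.mul _ (by norm_num) u hul, ← M.mul _ (by norm_num) c hcl, e]
      conv_rhs => rw [← hgv]
      group
  obtain ⟨tvR, tvvR⟩ := tv_facts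
  obtain ⟨Na, na, ia, ta⟩ := step qaList qa_facts.1 qa_facts.2.1 qa_facts.2.2.1 qa_facts.2.2.2.1 sC hsc hss
    (avoidA sC hsc hsR tvR (by decide))
  obtain ⟨Nc, nc, ic, tc⟩ := step qaList qa_facts.1 qa_facts.2.1 qa_facts.2.2.1 qa_facts.2.2.2.1 (mC sC vC) hsv
    (by decide +kernel) (avoidA _ hsv hsvR tvvR (by decide +kernel))
  obtain ⟨Nb, nb, ib, tb⟩ := step qbList qb_facts.1 qb_facts.2.1 qb_facts.2.2.1 qb_facts.2.2.2.1 vC hvc
    (by decide +kernel) (fun g c hc e => by
      rw [mul_inv_eq_iff_eq_mul.2 (mem_centralizer_singleton_iff.1 g.2)] at e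
      exact qb_facts.2.2.2.2 (M.inj c (qb_facts.1.2 c hc).1 vC (by norm_num) e ▸ hc))
  haveI := na; haveI := nb; haveI := nc
  have hF4 : ∀ c, (hc : c ∈ fourList) → D.kElt (hF c hc).1 ∈ Na ⊓ Nb ⊓ Nc := fun c hc =>
    ⟨⟨D.four_mem_of_index_two ia hc, D.four_mem_of_index_two ib hc⟩, D.four_mem_of_index_two ic hc⟩
  refine ⟨Na ⊓ Nb ⊓ Nc, inferInstance, hF4, fun c hc hcL => ?_,
    fun x => ⟨⟨mul_self_mem_of_index_two ia x, mul_self_mem_of_index_two ib x⟩, mul_self_mem_of_index_two ic x⟩⟩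
  rcases hdec c hc with h | ⟨f, hf, h⟩
  · exact h
  exfalso
  have hfl := (hF f hf).2
  have hfL := hF4 f hf
  have cancel : ∀ x, (hx : x ∈ centList vC) → c = mC x f → D.kElt hx ∈ Na ⊓ Nb ⊓ Nc := by
    intro x hx e
    have : D.kElt hx = D.kElt hc * (D.kElt (hF f hf).1)⁻¹ := Subtype.ext (by
      show ψ x = ψ c * (ψ f)⁻¹
      rw [e, ← M.mul x (centList_lt vC hvi x hx) f hfl, mul_inv_cancel_right])
    rw [this]
    exact mul_mem hcL (inv_mem hfL)
  rcases h with h | h | h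
  · exact tb (cancel vC hvc h).1.2
  · exact ta (cancel sC hsc h).1.1
  · exact tc (cancel _ hsv h).2

end

end CaseA

end CfsgLib.Spor.MTwelveCent
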