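import Cfsg.Agent.Lib.Spor.MTwelveCent.NormU
import Cfsg.Agent.Lib.Invol.Basic

/-!
# The two classes of involutions
-/

set_option autoImplicit false
set_option linter.unusedSectionVars false
set_option maxRecDepth 100000

namespace CfsgLib.Spor.MTwelveCent

open Subgroup

theorem tabA_facts : tabA.getD zC 0 = mC zC pC ∧ tabA.getD pC 0 = zC ∧ tabA.getD (mC zC pC) 0 = pC ∧
    tabA.getD vC 0 = vC ∧ (∀ x ∈ uList, tabA.getD x 0 ∈ uList) ∧
    ∃ c ∈ pList, c ∈ uList ∧ tabA.getD c 0 ∈ sList := by decide +kernel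

theorem code_mem_uList : zC ∈ uList ∧ pC ∈ uList ∧ mC zC pC ∈ uList ∧ vC ∈ uList ∧
    (∀ c ∈ pList, c < 192) ∧ pC ∈ pList ∧ vC ∈ rList ∧ (∀ c ∈ zList, c = zC ∨ c ∈ pList ∨ c ∈ sList) ∧
    (∀ c ∈ invList, c ∈ zList ∨ c ∈ rList) ∧ (∀ c ∈ zList, c ∉ rList) := by decide +kernel

namespace CaseA

variable {G : Type*} [Group G] [Finite G] {z : G} {ψ : ℕ → G} {w : G} (D : CaseA z ψ w)
include D

theorem w_z : w * z * w⁻¹ = ψ (mC zC pC) := by
  have h := D.act zC code_mem_uList.1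
  rwa [D.model.at_z, tabA_facts.1] at h

theorem w_p : w * ψ pC * w⁻¹ = z := by
  rw [D.act pC code_mem_uList.2.1, tabA_facts.2.1, D.model.at_z]

theorem w_zp : w * ψ (mC zC pC) * w⁻¹ = ψ pC := by
  rw [D.act _ code_mem_uList.2.2.1, tabA_facts.2.2.1]

theorem w_v : w * ψ vC * w⁻¹ = ψ vC := by
  rw [D.act _ code_mem_uList.2.2.2.1, tabA_facts.2.2.2.1]

theorem isConj_zC_pC : IsConj z (ψ pC) :=
  (isConj_iff.2 ⟨w, D.w_p⟩).symm

theorem isConj_z {c : ℕ} (hc : c ∈ zList) : IsConj z (ψ c) := by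
  obtain ⟨-, -, -, -, -, hpP, -, hcases, -, -⟩ := code_mem_uList
  rcases hcases c hc with rfl | h | h
  · rw [D.model.at_z]
  · exact D.isConj_zC_pC.trans (D.model.isConj_p h)
  · obtain ⟨p', hp', hpu, hS⟩ := tabA_facts.2.2.2.2.2
    have h1 : IsConj (ψ p') (ψ (tabA.getD p' 0)) := isConj_iff.2 ⟨w, D.act p' hpu⟩
    exact D.isConj_zC_pC.trans ((D.model.isConj_p hp').trans
      (h1.trans ((D.model.isConj_s hS).symm.trans (D.model.isConj_s h))))

theorem z_iff {c : ℕ} (hc : c ∈ invList) : IsConj z (ψ c) ↔ c ∈ zList := by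
  refine ⟨fun h => ?_, D.isConj_z⟩
  rcases code_mem_uList.2.2.2.2.2.2.2.2.1 c hc with h' | h'
  · exact h'
  · exact absurd h (D.model.not_isConj_r h')

theorem classes {x : G} (hx : x * x = 1) (hx1 : x ≠ 1) : IsConj z x ∨ IsConj (ψ vC) x := by
  obtain ⟨c, hc, h⟩ := D.model.conj_into hx hx1
  rcases code_mem_uList.2.2.2.2.2.2.2.2.1 c hc with h' | h'
  · exact Or.inl ((D.isConj_z h').trans h.symm)
  · exact Or.inr ((D.model.isConj_r h').trans h.symm)

theorem v_not : ¬ IsConj z (ψ vC) := D.model.not_isConj_r code_mem_uList.2.2.2.2.2.2.1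

end CaseA

end CfsgLib.Spor.MTwelveCent
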