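import Cfsg.Agent.Lib.Spor.MTwelveCent.KernelStruct
import Cfsg.Agent.Lib.Invol.TwoClasses

/-!
# The second centralizer is not small
-/

set_option autoImplicit false
set_option linter.unusedSectionVars false
set_option maxRecDepth 100000

namespace CfsgLib.Spor.MTwelveCent

open Subgroup

/-- Powers of a code. -/
noncomputable def powC (x : ℕ) : ℕ → ℕ
  | 0 => 0
  | n + 1 => mC (powC x n) x

/-- Conjugates of the central involution noncommuting with `d`, with product having the central power. -/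
noncomputable def farList (d : ℕ) : List ℕ :=
  zList.filter fun x => !commC x d && (List.range 12).any fun n => powC (mC x d) n == zC

theorem farList_length : ∀ d ∈ sList, 12 ≤ (farList d).length := by decide +kernel

theorem count_facts : zList.Nodup ∧ sList.Nodup ∧ sList.length = 24 ∧ zList.length = 31 ∧ rList.length = 12 := by
  decide +kernel

theorem zList_lt : (∀ c ∈ zList, c < 192) ∧ ∀ c ∈ sList, c ∈ zList := by decide +kernel

namespace Model

variable {G : Type*} [Group G] {z : G} {ψ : ℕ → G} (M : Model z ψ)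
include M

theorem powC_spec {x : ℕ} (hx : x < 192) : ∀ n, powC x n < 192 ∧ ψ (powC x n) = ψ x ^ n := by
  intro n
  induction n with
  | zero => exact ⟨by simp [powC], by simp [powC, M.one]⟩
  | succ n ih =>
    refine ⟨mC_lt _ ih.1 _ hx, ?_⟩
    rw [pow_succ, ← ih.2, M.mul _ ih.1 _ hx]
    rfl

end Model

namespace CaseA

variable {G : Type*} [Group G] [Finite G] {z : G} {ψ : ℕ → G} {w : G} (D : CaseA z ψ w)
include D

theorem v_ord : orderOf (ψ vC) = 2 := by
  obtain ⟨h1, h2⟩ := D.model.code_ne (list_mem.2.2.1 vC code_mem_uList.2.2.2.2.2.2.1)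
  exact orderOf_eq_prime (by rw [sq]; exact h2) h1

theorem zclass_sq {y : G} (h : IsConj z y) : y * y = 1 ∧ y ≠ 1 := by
  obtain ⟨g, rfl⟩ := isConj_iff.1 h
  exact ⟨by rw [show g * z * g⁻¹ * (g * z * g⁻¹) = g * (z * z) * g⁻¹ by group, D.model.zz]; group,
    fun h => D.model.z_ne (conj_eq_one_iff.1 h)⟩

theorem card_class_z : 288 ≤ Nat.card {y : G // IsConj z y} := by
  classical
  have M := D.model
  obtain ⟨hzn, hsn, hsl, -, -⟩ := count_facts
  have key : ∀ i : {i // i ∈ sList.toFinset}, ∃ f : Fin 12 → {y : G // IsConj z y},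
      Function.Injective f ∧ ∀ j, (f j).1 * z ≠ z * (f j).1 ∧ ψ i.1 ∈ zpowers ((f j).1 * z) := by
    rintro ⟨i, hi⟩
    rw [List.mem_toFinset] at hi
    have hiz := zList_lt.2 i hi
    obtain ⟨g, hg⟩ := isConj_iff.1 (D.isConj_z hiz)
    have hne : i ≠ zC := by rintro rfl; revert hi; decide
    have hii := list_mem.2.2.2.1 i hi
    obtain ⟨d, hd, hdz, e, hlen⟩ := M.partner hii hne hg
    rw [((centList_length i hii hne).2.2).2 hi] at hlen
    have hdS := ((centList_length d hd hdz).2.2).1 hlen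
    have hdl := (invList_lt d hd).1
    have hl := farList_length d hdS
    have hmem : ∀ j : Fin 12, (farList d).getD j 0 ∈ farList d := fun j => by
      rw [List.getD_eq_getElem _ _ (j.2.trans_le hl)]; exact List.getElem_mem _
    have spec : ∀ x ∈ farList d, x ∈ zList ∧ commC x d = false ∧ ∃ n, powC (mC x d) n = zC := by
      intro x hx
      simp only [farList, List.mem_filter, Bool.and_eq_true, Bool.not_eq_true', List.any_eq_true,
        beq_iff_eq] at hx
      obtain ⟨h1, h2, n, -, h3⟩ := hx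
      exact ⟨h1, h2, n, h3⟩
    refine ⟨fun j => ⟨g * ψ ((farList d).getD j 0) * g⁻¹,
      (D.isConj_z (spec _ (hmem j)).1).trans (isConj_iff.2 ⟨g, rfl⟩)⟩, fun a b hab => ?_, fun j => ?_⟩
    · have h := M.inj _ (zList_lt.1 _ (spec _ (hmem a)).1) _ (zList_lt.1 _ (spec _ (hmem b)).1)
        (mul_left_cancel (mul_right_cancel (congrArg Subtype.val hab)))
      rw [List.getD_eq_getElem _ _ (a.2.trans_le hl), List.getD_eq_getElem _ _ (b.2.trans_le hl)] at h
      exact Fin.ext (((hzn.filter _).getElem_inj_iff).1 h)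
    · obtain ⟨h1, h2, n, h3⟩ := spec _ (hmem j)
      have hxl := zList_lt.1 _ h1
      refine ⟨fun h => ?_, ?_⟩
      · have h4 : ψ ((farList d).getD j 0) * ψ d = ψ d * ψ ((farList d).getD j 0) := by
          refine mul_left_cancel (a := g) (mul_right_cancel (b := g⁻¹) ?_)
          calc g * (ψ ((farList d).getD j 0) * ψ d) * g⁻¹
              = g * ψ ((farList d).getD j 0) * g⁻¹ * (g * ψ d * g⁻¹) := by group
            _ = g * ψ d * g⁻¹ * (g * ψ ((farList d).getD j 0) * g⁻¹) := by rw [e]; exact h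
            _ = _ := by group
        rw [(M.comm_iff hxl hdl).1 h4] at h2
        exact Bool.noConfusion h2
      · refine ⟨(n : ℤ), ?_⟩
        show (g * ψ ((farList d).getD j 0) * g⁻¹ * z) ^ (n : ℤ) = ψ i
        rw [zpow_natCast, ← e,
          show g * ψ ((farList d).getD j 0) * g⁻¹ * (g * ψ d * g⁻¹) = g * (ψ ((farList d).getD j 0) * ψ d) * g⁻¹ by group,
          conj_pow, M.mul _ hxl _ hdl, ← (M.powC_spec (mC_lt _ hxl _ hdl) n).2, h3, M.at_z, hg]
  choose F hF1 hF2 using key
  have hinj : Function.Injective fun q : {i // i ∈ sList.toFinset} × Fin 12 => F q.1 q.2 := by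
    rintro ⟨i, a⟩ ⟨i', a'⟩ h
    simp only at h
    have h1 := (hF2 i a).2
    rw [h] at h1
    have h2 := (hF2 i' a').2
    have o : ∀ j : {i // i ∈ sList.toFinset}, orderOf (ψ j.1) = 2 := fun j => by
      obtain ⟨p1, p2⟩ := M.code_ne (list_mem.2.2.2.1 _ (List.mem_toFinset.1 j.2))
      exact orderOf_eq_prime (by rw [sq]; exact p2) p1
    have e := CfsgLib.Invol.invol_zpowers_unique (o i) (o i') h1 h2
    have hii : i = i' := Subtype.ext (M.inj _ (zList_lt.1 _ (zList_lt.2 _ (List.mem_toFinset.1 i.2))) _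
      (zList_lt.1 _ (zList_lt.2 _ (List.mem_toFinset.1 i'.2))) e)
    subst hii
    exact Prod.ext rfl (hF1 i h)
  have := Nat.card_le_card_of_injective _ hinj
  rw [Nat.card_prod, Nat.card_fin, Nat.card_eq_fintype_card, Fintype.card_coe,
    List.toFinset_card_of_nodup hsn, hsl] at this
  exact le_trans (by norm_num) this

theorem card_class_v (hK : Nat.card ↥(centralizer ({ψ vC} : Set G)) ≤ 48) :
    Nat.card {s : G // IsConj (ψ vC) s} ≤ 948 := by
  classical
  have M := D.model
  obtain ⟨-, -, -, hzl, hrl⟩ := count_facts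
  have hvR := code_mem_uList.2.2.2.2.2.2.1
  have hzbound : ∀ c ∈ zList, Nat.card {s : G // IsConj (ψ vC) s ∧ s * ψ c = ψ c * s} ≤ 12 := by
    intro c hc
    obtain ⟨g, hg⟩ := isConj_iff.1 (D.isConj_z hc)
    have hsub : ∀ s : {s : G // IsConj (ψ vC) s ∧ s * ψ c = ψ c * s}, ∃ r ∈ rList, g * ψ r * g⁻¹ = s.1 := by
      rintro ⟨s, hs, hsc⟩
      have hs2 : orderOf s = 2 := by
        obtain ⟨k, rfl⟩ := isConj_iff.1 hs
        exact CfsgLib.Invol.invol_conj D.v_ord k
      have hcom : g⁻¹ * s * g * z = z * (g⁻¹ * s * g) := by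
        calc g⁻¹ * s * g * z = g⁻¹ * (s * (g * z * g⁻¹)) * g := by group
          _ = g⁻¹ * (g * z * g⁻¹ * s) * g := by rw [hg, hsc]
          _ = _ := by group
      have hs2' : orderOf (g⁻¹ * s * g) = 2 := by
        have := CfsgLib.Invol.invol_conj hs2 g⁻¹
        rwa [inv_inv] at this
      obtain ⟨r, hr, e⟩ := M.inv_code hcom (CfsgLib.Invol.invol_mul_self hs2') (CfsgLib.Invol.invol_ne_one hs2')
      refine ⟨r, ?_, by rw [e]; group⟩
      rcases code_mem_uList.2.2.2.2.2.2.2.2.1 r hr with h | h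
      · have hconj : IsConj (g⁻¹ * s * g) s := isConj_iff.2 ⟨g, by group⟩
        exact absurd ((D.isConj_z h).trans ((e ▸ hconj).trans hs.symm)) D.v_not
      · exact h
    choose F hF1 hF2 using hsub
    have hinj : Function.Injective fun s => (⟨F s, List.mem_toFinset.2 (hF1 s)⟩ : {c // c ∈ rList.toFinset}) :=
      fun a b e => Subtype.ext (by rw [← hF2 a, ← hF2 b, show F a = F b from congrArg Subtype.val e])
    refine (Nat.card_le_card_of_injective _ hinj).trans ?_
    rw [Nat.card_eq_fintype_card, Fintype.card_coe]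
    exact hrl ▸ List.toFinset_card_le _
  have hrbound : ∀ c ∈ rList, Nat.card {s : G // IsConj (ψ vC) s ∧ s * ψ c = ψ c * s} ≤ 48 := by
    intro c hc
    refine (Nat.card_le_card_of_injective
      (β := ↥(centralizer ({ψ c} : Set G))) (fun s => ⟨s.1, mem_centralizer_singleton_iff.2 s.2.2⟩)
      fun a b e => Subtype.ext (show a.1 = b.1 from Subtype.mk.inj e)).trans ?_
    rw [CfsgLib.Invol.card_centralizer_conj (M.isConj_r hc)]
    exact hK
  have hex : ∀ s : {s : G // IsConj (ψ vC) s}, ∃ c ∈ invList, s.1 * ψ c = ψ c * s.1 := by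
    rintro ⟨s, hs⟩
    have hs2 : orderOf s = 2 := by
      obtain ⟨k, rfl⟩ := isConj_iff.1 hs
      exact CfsgLib.Invol.invol_conj D.v_ord k
    obtain ⟨i, hi, hiz, his⟩ := CfsgLib.Invol.exists_invol_commute_both M.ord hs2
      (fun h => D.v_not (h.trans hs.symm))
    obtain ⟨c, hc, rfl⟩ := M.inv_code hiz.eq (CfsgLib.Invol.invol_mul_self hi) (CfsgLib.Invol.invol_ne_one hi)
    exact ⟨c, hc, his.eq.symm⟩
  have hz' : ∀ c : {c // c ∈ zList.toFinset}, ∃ f : {s : G // IsConj (ψ vC) s ∧ s * ψ c.1 = ψ c.1 * s} → Fin 12,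
      Function.Injective f := fun c =>
    ⟨fun s => Fin.castLE (hzbound c (List.mem_toFinset.1 c.2)) (Finite.equivFin _ s),
      fun a b e => (Finite.equivFin _).injective (Fin.castLE_injective _ e)⟩
  have hr' : ∀ c : {c // c ∈ rList.toFinset}, ∃ f : {s : G // IsConj (ψ vC) s ∧ s * ψ c.1 = ψ c.1 * s} → Fin 48,
      Function.Injective f := fun c =>
    ⟨fun s => Fin.castLE (hrbound c (List.mem_toFinset.1 c.2)) (Finite.equivFin _ s),
      fun a b e => (Finite.equivFin _).injective (Fin.castLE_injective _ e)⟩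
  choose fz hfz using hz'
  choose fr hfr using hr'
  choose C hC hCc using hex
  let Φ : {s : G // IsConj (ψ vC) s} → ({c // c ∈ zList.toFinset} × Fin 12) ⊕ ({c // c ∈ rList.toFinset} × Fin 48) :=
    fun s => if h : C s ∈ zList then Sum.inl (⟨C s, List.mem_toFinset.2 h⟩,
        fz ⟨C s, List.mem_toFinset.2 h⟩ ⟨s.1, s.2, hCc s⟩)
      else Sum.inr (⟨C s, List.mem_toFinset.2 ((code_mem_uList.2.2.2.2.2.2.2.2.1 _ (hC s)).resolve_left h)⟩,
        fr ⟨C s, List.mem_toFinset.2 ((code_mem_uList.2.2.2.2.2.2.2.2.1 _ (hC s)).resolve_left h)⟩ ⟨s.1, s.2, hCc s⟩)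
  have hΦ : Function.Injective Φ := by
    intro a b e
    simp only [Φ] at e
    split_ifs at e with ha hb hb
    · simp only [Sum.inl.injEq, Prod.mk.injEq, Subtype.mk.injEq] at e
      have key : ∀ (c c' : {c // c ∈ zList.toFinset}) (hc : c = c') (x : {s : G // IsConj (ψ vC) s ∧ s * ψ c.1 = ψ c.1 * s})
          (y : {s : G // IsConj (ψ vC) s ∧ s * ψ c'.1 = ψ c'.1 * s}), fz c x = fz c' y → x.1 = y.1 := by
        rintro c _ rfl x y h; exact congrArg Subtype.val (hfz c h)
      exact Subtype.ext (key _ _ (Subtype.ext e.1) _ _ e.2)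
    · simp only [Sum.inr.injEq, Prod.mk.injEq, Subtype.mk.injEq] at e
      have key : ∀ (c c' : {c // c ∈ rList.toFinset}) (hc : c = c') (x : {s : G // IsConj (ψ vC) s ∧ s * ψ c.1 = ψ c.1 * s})
          (y : {s : G // IsConj (ψ vC) s ∧ s * ψ c'.1 = ψ c'.1 * s}), fr c x = fr c' y → x.1 = y.1 := by
        rintro c _ rfl x y h; exact congrArg Subtype.val (hfr c h)
      exact Subtype.ext (key _ _ (Subtype.ext e.1) _ _ e.2)
  refine (Nat.card_le_card_of_injective Φ hΦ).trans ?_
  rw [Nat.card_sum, Nat.card_prod, Nat.card_prod, Nat.card_fin, Nat.card_fin, Nat.card_eq_fintype_card,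
    Nat.card_eq_fintype_card, Fintype.card_coe, Fintype.card_coe]
  have h1 := List.toFinset_card_le zList
  have h2 := List.toFinset_card_le rList
  omega

/-- The second centralizer has order more than 48. -/
theorem not_small : 48 < Nat.card ↥(centralizer ({ψ vC} : Set G)) := by
  by_contra h
  push Not at h
  have h1 := CfsgLib.Invol.card_isConj_mul z
  have h2 := CfsgLib.Invol.card_isConj_mul (ψ vC)
  rw [D.model.card] at h1
  have := Nat.mul_le_mul (D.card_class_v h) h
  have := D.card_class_z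
  omega

/-- The kernel is alternating of degree five. -/
theorem exists_alt : ∃ L, Ker D L ∧ Nonempty (L ≃* alternatingGroup (Fin 5)) := by
  obtain ⟨L, R⟩ := D.exists_ker
  rcases R.small_or_alt with h | h
  · have := R.card_le
    have := D.not_small
    omega
  · exact ⟨L, R, h⟩

end CaseA

end CfsgLib.Spor.MTwelveCent
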