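import Cfsg.Agent.Lib.Spor.TC.Check

/-!
# Relators for the Mathieu group of degree twelve

Letters `0, …, 4` are involutions of the centralizer, `5` inverts the element of order three, `6` is an involution of
the alternating group of degree five.
-/

set_option autoImplicit false

namespace CfsgLib.Spor.MTwelveCent

/-- The codes of the letters in the centralizer. -/
def lCodes : List ℕ := [65, 181, 56, 63, 60]

/-- Words for some elements of the centralizer. -/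
def wordOf : ℕ → List ℕ
  | 11 => [1, 0, 3, 4]
  | 56 => [2]
  | 60 => [4]
  | 63 => [3]
  | 65 => [0]
  | 114 => [0, 1, 3, 0]
  | 155 => [0, 1, 0, 1]
  | 161 => [0, 1, 0]
  | 181 => [1]
  | 191 => [4, 1, 4]
  | _ => []

/-- Orders of the products with the twelve elements of the alternating group of degree four. -/
def sigY : List ℕ := [2, 3, 5, 5, 3, 5, 2, 5, 3, 5, 5, 2]

/-- The other possibility. -/
def sigY' : List ℕ := [2, 3, 5, 5, 2, 5, 3, 5, 2, 5, 5, 3]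

/-- Generators of the centralizer of the four group whose conjugates are known. -/
def selU : List ℕ := [56, 63, 161, 114]

/-- An element of order three permuting three commuting involutions. -/
abbrev kC : ℕ := 11

/-- Relators of the centralizer. -/
def centRels : List (List ℕ) :=
  [[3, 4, 3, 4, 3, 4],
   [0, 2, 0, 3, 2, 1, 3],
   [0, 4, 3, 2, 3, 4, 2],
   [0, 1, 3, 4, 0, 4, 2, 3]
  ]

/-- The relators. -/
def fullRels : List (List ℕ) :=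
  [[],
   [3, 4, 3, 4, 3, 4],
   [0, 5, 0, 5, 0, 5],
   [0, 5, 2, 5, 0, 2],
   [0, 2, 0, 3, 2, 1, 3],
   [0, 4, 3, 2, 3, 4, 2],
   [0, 1, 3, 4, 0, 4, 2, 3],
   [0, 5, 3, 5, 0, 4, 1, 4],
   [0, 5, 0, 1, 0, 5, 0, 1],
   [0, 5, 0, 1, 3, 0, 5, 0, 3],
   [6, 2, 6, 2],
   [6, 0, 6, 0],
   [6, 1, 0, 5, 6, 1, 0, 5],
   [6, 0, 5, 6, 0, 5, 6, 0, 5],
   [6, 1, 0, 3, 4, 6, 4, 3, 0, 1],
   [6, 1, 6, 1, 6, 1, 6, 1, 6, 1],
   [6, 0, 1, 5, 0, 5, 6, 0, 1, 5, 0, 5],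
   [6, 0, 1, 0, 1, 6, 0, 1, 0, 1, 6, 0, 1, 0, 1],
   [6, 0, 5, 0, 5, 6, 0, 5, 0, 5, 6, 0, 5, 0, 5],
   [6, 0, 1, 0, 6, 0, 1, 0, 6, 0, 1, 0, 6, 0, 1, 0, 6, 0, 1, 0],
   [6, 0, 1, 5, 6, 0, 1, 5, 6, 0, 1, 5, 6, 0, 1, 5, 6, 0, 1, 5],
   [6, 1, 0, 5, 0, 5, 6, 1, 0, 5, 0, 5, 6, 1, 0, 5, 0, 5, 6, 1, 0, 5, 0, 5, 6, 1, 0, 5, 0, 5],
   [6, 0, 1, 0, 1, 0, 5, 6, 0, 1, 0, 1, 0, 5, 6, 0, 1, 0, 1, 0, 5, 6, 0, 1, 0, 1, 0, 5, 6, 0, 1, 0, 1, 0, 5],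
   [6, 0, 1, 0, 1, 0, 5, 0, 5, 6, 0, 1, 0, 1, 0, 5, 0, 5, 6, 0, 1, 0, 1, 0, 5, 0, 5, 6, 0, 1, 0, 1, 0, 5, 0, 5, 6, 0, 1, 0, 1, 0, 5, 0, 5]
  ]

/-- The generators of the subgroup. -/
def centSubs : List (List ℕ) := [[0], [1], [2], [3], [4]]

end CfsgLib.Spor.MTwelveCent
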