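import Cfsg.Agent.Lib.Spor.MTwelveCent.FiveData
import Cfsg.Agent.Lib.Spor.MTwelveCent.Relators
import Mathlib.GroupTheory.SpecificGroups.Alternating
import Mathlib.Algebra.Group.Conj

/-!
# Signatures of involutions of the alternating group of degree five
-/

set_option autoImplicit false
set_option maxRecDepth 100000

namespace CfsgLib.Spor.MTwelveCent

/-- The permutation of a code. -/
def five (a : ℕ) : Equiv.Perm (Fin 5) :=
  (fiveWords.getD a []).foldl (fun r p => r * Equiv.swap (Fin.ofNat 5 p.1) (Fin.ofNat 5 p.2)) 1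

theorem five_zero : five 0 = 1 := by decide +kernel

theorem five_mul : ∀ a < 60, ∀ b < 60, fMul a b < 60 ∧ ∀ i : Fin 5, five a (five b i) = five (fMul a b) i := by
  decide +kernel

theorem five_inv : ∀ a < 60, fInvList.getD a 0 < 60 ∧ fMul a (fInvList.getD a 0) = 0 := by decide +kernel

theorem five_inj : ∀ a < 60, ∀ b < 60, (∀ i : Fin 5, five a i = five b i) → a = b := by decide +kernel

theorem five_sign : ∀ a < 60, Equiv.Perm.sign (five a) = 1 := by decide +kernel

/-- The element of a code. -/
def fiveElt (a : Fin 60) : alternatingGroup (Fin 5) :=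
  ⟨five a, Equiv.Perm.mem_alternatingGroup.2 (five_sign a a.2)⟩

theorem fiveElt_bijective : Function.Bijective fiveElt := by
  classical
  refine (Fintype.bijective_iff_injective_and_card _).2 ⟨fun a b e => Fin.ext (five_inj a a.2 b b.2 fun i => by
    rw [show five a = five b from congrArg Subtype.val e]), ?_⟩
  rw [Fintype.card_fin, ← Nat.card_eq_fintype_card, nat_card_alternatingGroup]
  simp [Nat.factorial]

/-- Coordinates of a group isomorphic to the alternating group of degree five. -/
structure FiveCoord (L : Type*) [Group L] (φ : ℕ → L) : Prop where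
  mul : ∀ a < 60, ∀ b < 60, φ a * φ b = φ (fMul a b)
  inj : ∀ a < 60, ∀ b < 60, φ a = φ b → a = b
  surj : ∀ g, ∃ a < 60, φ a = g
  one : φ 0 = 1

theorem exists_fiveCoord {L : Type*} [Group L] (e : L ≃* alternatingGroup (Fin 5)) : ∃ φ, FiveCoord L φ := by
  refine ⟨fun a => if h : a < 60 then e.symm (fiveElt ⟨a, h⟩) else 1, fun a ha b hb => ?_, fun a ha b hb h => ?_,
    fun g => ?_, ?_⟩
  · simp only [dif_pos ha, dif_pos hb, dif_pos (five_mul a ha b hb).1]
    rw [← map_mul]
    exact congrArg e.symm (Subtype.ext (Equiv.ext fun i => (five_mul a ha b hb).2 i))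
  · simp only [dif_pos ha, dif_pos hb] at h
    exact congrArg Fin.val (fiveElt_bijective.1 (e.symm.injective h))
  · obtain ⟨a, ha⟩ := fiveElt_bijective.2 (e g)
    exact ⟨a, a.2, by simp only [dif_pos a.2]; rw [ha, e.symm_apply_apply]⟩
  · simp only [dif_pos (show (0 : ℕ) < 60 by norm_num)]
    rw [show fiveElt ⟨0, by norm_num⟩ = 1 from Subtype.ext five_zero, map_one]

/-- The order of a code. -/
noncomputable def fOrd (x : ℕ) : ℕ :=
  if x = 0 then 1 else if fMul x x = 0 then 2 else if fMul (fMul x x) x = 0 then 3 else 5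

theorem fOrd_spec : ∀ x < 60,
    (fOrd x = 1 ∧ x = 0) ∨ (fOrd x = 2 ∧ x ≠ 0 ∧ fMul x x = 0) ∨ (fOrd x = 3 ∧ x ≠ 0 ∧ fMul (fMul x x) x = 0) ∨
      (fOrd x = 5 ∧ x ≠ 0 ∧ fMul (fMul (fMul (fMul x x) x) x) x = 0) := by decide +kernel

/-- The twelve elements made from two generators. -/
noncomputable def fourElts (a b : ℕ) : List ℕ :=
  let c := fMul (fMul (fInvList.getD b 0) a) b
  [0, a, c, fMul a c, b, fMul a b, fMul c b, fMul (fMul a c) b, fMul b b, fMul a (fMul b b),
    fMul c (fMul b b), fMul (fMul a c) (fMul b b)]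

/-- The signature. -/
noncomputable def fSig (a b y : ℕ) : List ℕ := (fourElts a b).map fun g => fOrd (fMul y g)

/-- The permutation of the twelve elements induced by the inverting involution. -/
def sigPerm : List ℕ := [0, 1, 3, 2, 8, 9, 11, 10, 4, 5, 7, 6]

/-- The possible pairs of generators. -/
noncomputable def genOK (a b : ℕ) : Bool :=
  (a != 0) && ((fMul a a == 0) && ((b != 0) && ((fMul (fMul b b) b == 0) &&
    ((fMul (fMul (fInvList.getD b 0) a) b != a) &&
      ((fMul a (fMul (fMul (fInvList.getD b 0) a) b) == fMul (fMul (fMul (fInvList.getD b 0) a) b) a) &&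
        (fMul (fMul b a) (fInvList.getD b 0) == fMul a (fMul (fMul (fInvList.getD b 0) a) b)))))))

/-- The involutions. -/
def fInvols : List ℕ := (List.range 60).filter fun y => (y != 0) && fInvList.getD y 0 == y

/-- The facts for one pair. -/
noncomputable def pairOK (a b : ℕ) : Bool :=
  let E := fourElts a b
  let L := fInvols.map fun y => (y, (E.map fun g => fOrd (fMul y g)))
  (fInvols.any fun y => ((E.map fun g => fOrd (fMul y g)) == sigY) && !(E.contains y)) &&
    ((L.all fun p => L.all fun q => (p.1 == q.1) || !(p.2 == q.2)) &&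
      L.all fun p => !((sigPerm.map fun i => p.2.getD i 0) == p.2) || ((p.1 == a) || ((p.2 == sigY) || (p.2 == sigY'))))

theorem pairs_all : ((List.range 60).all fun a => (List.range 60).all fun b => !genOK a b || pairOK a b) = true := by
  decide +kernel

theorem fInvols_spec : ∀ y < 60, (fMul y y = 0 ∧ y ≠ 0) ↔ y ∈ fInvols := by decide +kernel

theorem invol_conj_all : ∀ a ∈ fInvols, ∀ y ∈ fInvols,
    ((List.range 60).any fun g => fMul g a == fMul y g) = true := by decide +kernel

theorem sigY_facts : sigY.length = 12 ∧ sigY ≠ sigY' ∧ (sigPerm.map fun i => sigY.getD i 0) = sigY ∧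
    sigY.getD 0 0 = 2 := by decide +kernel

end CfsgLib.Spor.MTwelveCent
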