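import Cfsg.Agent.Lib.Spor.MTwelveCent.Exclude
import Cfsg.Agent.Lib.Spor.MTwelveCent.Five

/-!
# The extra involution
-/

set_option autoImplicit false
set_option linter.unusedSectionVars false
set_option maxRecDepth 100000

namespace CfsgLib.Spor.MTwelveCent

open Subgroup

/-- The twelve elements as code and power of the element of order three. -/
def sigPairs : List (ℕ × ℕ) :=
  [(0, 0), (zC, 0), (pC, 0), (161, 0), (0, 1), (zC, 1), (pC, 1), (161, 1), (0, 2), (zC, 2), (pC, 2), (161, 2)]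

theorem genOK_nodup : ((List.range 60).all fun a => (List.range 60).all fun b =>
    !genOK a b || decide ((fourElts a b).Nodup)) = true := by decide +kernel

theorem k_facts : kC < 192 ∧ conjC kC vC = sC ∧ conjC kC sC = mC vC sC ∧ mC (mC kC kC) kC = 0 ∧
    mC (mC vC sC) sC = vC ∧ mC vC sC < 192 := by decide +kernel

theorem sigPairs_swap : ∀ i < 12,
    (sigPairs.getD i (0, 0)).1 < 192 ∧ (sigPairs.getD i (0, 0)).1 ∈ fourList ∧ (sigPairs.getD i (0, 0)).2 < 3 ∧
      ((sigPairs.getD i (0, 0)).2 = 0 →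
        sigPairs.getD (sigPerm.getD i 0) (0, 0) = (conjC sC (sigPairs.getD i (0, 0)).1, 0)) ∧
      ((sigPairs.getD i (0, 0)).2 ≠ 0 →
        sigPairs.getD (sigPerm.getD i 0) (0, 0) =
          (conjC sC (sigPairs.getD i (0, 0)).1, 3 - (sigPairs.getD i (0, 0)).2)) ∧
      sigPerm.getD i 0 < 12 := by decide +kernel

/-- The extra involution with its relations. -/
structure Extra {G : Type*} [Group G] (z : G) (ψ : ℕ → G) (w y : G) : Prop where
  sq : y * y = 1
  comm_v : y * ψ vC = ψ vC * y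
  comm_t : y * ψ sC = ψ sC * y
  comm_k : y * ψ kC = ψ kC * y
  powers : ∀ i < 12, (y * (ψ (sigPairs.getD i (0, 0)).1 * w ^ (sigPairs.getD i (0, 0)).2)) ^ sigY.getD i 0 = 1
  gen : ∀ H : Subgroup G, (∀ c < 192, ψ c ∈ H) → w ∈ H → y ∈ H →
    ∀ x : G, x * ψ vC = ψ vC * x → x ∈ H

namespace CaseA

variable {G : Type*} [Group G] [Finite G] {z : G} {ψ : ℕ → G} {w : G} (D : CaseA z ψ w)
include D

theorem exists_extra : ∃ y, Extra z ψ w y := by
  classical
  have M := D.model
  obtain ⟨L, R, ⟨e⟩⟩ := D.exists_alt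
  haveI := R.normal
  obtain ⟨φ, C⟩ := exists_fiveCoord e
  obtain ⟨-, -, hzc, hsc, -, hpc, h161, hF, -, -, -, -, -, hss, -⟩ := vList_facts
  obtain ⟨hk, hkv, hkt, hk3, hvtt, hvt⟩ := k_facts
  set val : L → G := fun l => l.1.1 with hval
  have vmul : ∀ a b, val (a * b) = val a * val b := fun _ _ => rfl
  have vinv : ∀ a, val a⁻¹ = (val a)⁻¹ := fun _ => rfl
  have vinj : ∀ {a b}, val a = val b → a = b := fun h => Subtype.ext (Subtype.ext h)
  have vord : ∀ a, orderOf (val a) = orderOf a := fun a => by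
    rw [← Subgroup.orderOf_coe a, ← Subgroup.orderOf_coe (a : ↥(centralizer ({ψ vC} : Set G)))]
  have z4 : zC ∈ fourList := by simp [fourList]
  obtain ⟨a, ha, ea⟩ := C.surj ⟨D.kElt hzc, R.four zC z4⟩
  obtain ⟨b, hb, eb⟩ := C.surj ⟨⟨w, D.w_mem⟩, R.w_mem⟩
  have va : val (φ a) = z := by rw [ea]; exact M.at_z
  have vb : val (φ b) = w := by rw [eb]
  have fl : ∀ {x y}, x < 60 → y < 60 → fMul x y < 60 := fun hx hy => (five_mul _ hx _ hy).1
  have vφ : ∀ {x y}, x < 60 → y < 60 → val (φ (fMul x y)) = val (φ x) * val (φ y) := fun hx hy => by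
    rw [← C.mul _ hx _ hy, vmul]
  obtain ⟨hbi, hbi'⟩ := five_inv b hb
  have vbi : val (φ (fInvList.getD b 0)) = w⁻¹ := by
    have h := congrArg (fun x => val (φ x)) hbi'
    simp only [vφ hb hbi, C.one, vb] at h
    exact (inv_eq_of_mul_eq_one_right h).symm
  have hp' : w⁻¹ * z * w = ψ pC := by
    rw [← D.w_p]; group
  set c := fMul (fMul (fInvList.getD b 0) a) b with hc
  have hcl : c < 60 := fl (fl hbi ha) hb
  have vc : val (φ c) = ψ pC := by rw [hc, vφ (fl hbi ha) hb, vφ hbi ha, vbi, va, vb, hp']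
  have v161 : val (φ (fMul a c)) = ψ 161 := by
    rw [vφ ha hcl, va, vc, h161, ← M.mul zC (by norm_num) pC (by norm_num), M.at_z]
  have phi_eq : ∀ {x y}, x < 60 → y < 60 → val (φ x) = val (φ y) → x = y := fun hx hy h =>
    C.inj _ hx _ hy (vinj h)
  have v1 : val (φ 0) = 1 := by rw [C.one]; rfl
  have hgen : genOK a b = true := by
    simp only [genOK, Bool.and_eq_true, bne_iff_ne, beq_iff_eq, ← hc]
    refine ⟨fun h => M.z_ne ?_, phi_eq (fl ha ha) (by norm_num) ?_, fun h => ?_,
      phi_eq (fl (fl hb hb) hb) (by norm_num) ?_, fun h => ?_, phi_eq (fl ha hcl) (fl hcl ha) ?_,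
      phi_eq (fl (fl hb ha) hbi) (fl ha hcl) ?_⟩
    · rw [← va, h, v1]
    · rw [vφ ha ha, va, M.zz, v1]
    · have e1 : w = 1 := by rw [← vb, h, v1]
      have e2 := D.w_p
      rw [e1, one_mul, inv_one, mul_one, ← M.at_z] at e2
      have := M.inj pC (by norm_num) zC (by norm_num) e2
      norm_num at this
    · rw [vφ (fl hb hb) hb, vφ hb hb, vb, D.cube, v1]
    · rw [h, va, ← M.at_z] at vc
      have := M.inj zC (by norm_num) pC (by norm_num) vc
      norm_num at this
    · rw [vφ ha hcl, vφ hcl ha, va, vc]; exact (M.comm_z (by norm_num)).symm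
    · rw [vφ (fl hb ha) hbi, vφ hb ha, vb, va, vbi, D.w_z, v161, h161]
  have hpair : pairOK a b = true := by
    have h := List.all_eq_true.1 (List.all_eq_true.1 pairs_all a (List.mem_range.2 ha)) b (List.mem_range.2 hb)
    rw [hgen] at h
    simpa using h
  have hnd : (fourElts a b).Nodup := by
    have h := List.all_eq_true.1 (List.all_eq_true.1 genOK_nodup a (List.mem_range.2 ha)) b (List.mem_range.2 hb)
    rw [hgen] at h
    simpa using h
  have hbb : fMul b b < 60 := fl hb hb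
  have vbb : val (φ (fMul b b)) = w ^ 2 := by rw [vφ hb hb, vb, pow_two]
  have elts : ∀ i < 12, (fourElts a b).getD i 0 < 60 ∧
      val (φ ((fourElts a b).getD i 0)) = ψ (sigPairs.getD i (0, 0)).1 * w ^ (sigPairs.getD i (0, 0)).2 := by
    intro i hi
    have hac := fl ha hcl
    interval_cases i <;> simp only [fourElts, sigPairs, ← hc, List.getD_cons_zero, List.getD_cons_succ,
      pow_zero, pow_one, mul_one]
    all_goals first
      | exact ⟨by norm_num, by rw [v1, M.one]⟩
      | exact ⟨ha, by rw [va, M.at_z]⟩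
      | exact ⟨hcl, vc⟩
      | exact ⟨hac, v161⟩
      | exact ⟨hb, by rw [vb, M.one, one_mul]⟩
      | exact ⟨fl ha hb, by rw [vφ ha hb, va, vb, M.at_z]⟩
      | exact ⟨fl hcl hb, by rw [vφ hcl hb, vc, vb]⟩
      | exact ⟨fl hac hb, by rw [vφ hac hb, v161, vb]⟩
      | exact ⟨hbb, by rw [vbb, M.one, one_mul]⟩
      | exact ⟨fl ha hbb, by rw [vφ ha hbb, va, vbb, M.at_z]⟩
      | exact ⟨fl hcl hbb, by rw [vφ hcl hbb, vc, vbb]⟩
      | exact ⟨fl hac hbb, by rw [vφ hac hbb, v161, vbb]⟩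
  have ford : ∀ {x}, x < 60 → orderOf (val (φ x)) = fOrd x := by
    intro x hx
    rw [vord]
    have hne : x ≠ 0 → φ x ≠ 1 := fun h h' => h (C.inj x hx 0 (by norm_num) (h'.trans C.one.symm))
    rcases fOrd_spec x hx with ⟨h, rfl⟩ | ⟨h, h0, h1⟩ | ⟨h, h0, h1⟩ | ⟨h, h0, h1⟩ <;> rw [h]
    · rw [C.one, orderOf_one]
    · exact orderOf_eq_prime (by rw [pow_two, C.mul x hx x hx, h1, C.one]) (hne h0)
    · haveI : Fact (Nat.Prime 3) := ⟨Nat.prime_three⟩
      exact orderOf_eq_prime (by rw [pow_succ, pow_two, C.mul x hx x hx, C.mul _ (fl hx hx) x hx, h1, C.one]) (hne h0)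
    · haveI : Fact (Nat.Prime 5) := ⟨Nat.prime_five⟩
      refine orderOf_eq_prime ?_ (hne h0)
      rw [pow_succ, pow_succ, pow_succ, pow_two, C.mul x hx x hx, C.mul _ (fl hx hx) x hx,
        C.mul _ (fl (fl hx hx) hx) x hx, C.mul _ (fl (fl (fl hx hx) hx) hx) x hx, h1, C.one]
  have hlenE : (fourElts a b).length = 12 := rfl
  have sigval : ∀ {x}, x < 60 → ∀ i < 12, ((fourElts a b).map fun g => fOrd (fMul x g)).getD i 0 =
      orderOf (val (φ x) * (ψ (sigPairs.getD i (0, 0)).1 * w ^ (sigPairs.getD i (0, 0)).2)) := by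
    intro x hx i hi
    obtain ⟨hl, hv⟩ := elts i hi
    rw [List.getD_eq_getElem _ _ (by rw [List.length_map, hlenE]; exact hi), List.getElem_map,
      ← List.getD_eq_getElem (d := 0), ← ford (fl hx hl), vφ hx hl, hv]
  -- invariance for fixed points of the inverting involution
  set t := ψ sC with ht
  have tt : t * t = 1 := by rw [ht, M.mul _ (by norm_num) _ (by norm_num), hss, M.one]
  have ti : t⁻¹ = t := inv_eq_of_mul_eq_one_right tt
  have twt : t * w * t = w ^ 2 := by
    have h := D.flip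
    rw [← ht, ti] at h
    rw [h, pow_two]
    exact (eq_inv_of_mul_eq_one_left D.cube).symm
  have w3 : w ^ 3 = 1 := by rw [pow_succ, pow_two, D.cube]
  have swap : ∀ i < 12, t * (ψ (sigPairs.getD i (0, 0)).1 * w ^ (sigPairs.getD i (0, 0)).2) * t =
      ψ (sigPairs.getD (sigPerm.getD i 0) (0, 0)).1 * w ^ (sigPairs.getD (sigPerm.getD i 0) (0, 0)).2 := by
    intro i hi
    obtain ⟨hcl', -, hj, h0, h1, -⟩ := sigPairs_swap i hi
    set cc := (sigPairs.getD i (0, 0)).1
    set j := (sigPairs.getD i (0, 0)).2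
    have e1 : t * (ψ cc * w ^ j) * t = ψ (conjC sC cc) * (t * w ^ j * t) := by
      rw [← M.conj (by norm_num) hcl', ← ht, ti]
      calc t * (ψ cc * w ^ j) * t = t * ψ cc * 1 * w ^ j * t := by group
        _ = _ := by rw [← tt]; group
    have e2 : t * w ^ j * t = (w ^ 2) ^ j := by
      conv_lhs => arg 2; rw [← ti]
      rw [← conj_pow, ti, twt]
    rw [e1, e2, ← pow_mul]
    rcases Nat.eq_zero_or_pos j with hj0 | hj0
    · rw [h0 hj0, hj0]
    · rw [h1 (by omega)]
      interval_cases j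
      · rfl
      · rw [show 2 * 2 = 3 + 1 from rfl, pow_add, w3, one_mul]
  have inv_sig : ∀ {x x'}, x < 60 → x' < 60 → t * val (φ x) * t = val (φ x') → ∀ i < 12,
      ((fourElts a b).map fun g => fOrd (fMul x' g)).getD i 0 =
        ((fourElts a b).map fun g => fOrd (fMul x g)).getD (sigPerm.getD i 0) 0 := by
    intro x x' hx hx' he i hi
    rw [sigval hx' i hi, sigval hx _ (sigPairs_swap i hi).2.2.2.2.2, ← swap i hi, ← he]
    rw [← MulEquiv.orderOf_eq (MulAut.conj t)]
    refine congrArg orderOf ?_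
    show t * (t * val (φ x) * t * _) * t⁻¹ = _
    rw [ti]
    calc _ = t * t * val (φ x) * (t * (ψ (sigPairs.getD i (0, 0)).1 * w ^ (sigPairs.getD i (0, 0)).2) * t) := by
          group
      _ = _ := by rw [tt, one_mul]
  simp only [pairOK, Bool.and_eq_true, List.any_eq_true, List.all_eq_true, beq_iff_eq, Bool.or_eq_true,
    Bool.not_eq_true', List.mem_map, forall_exists_index, and_imp, forall_apply_eq_imp_iff₂] at hpair
  obtain ⟨⟨y, hyI, hysig, hyE'⟩, hinjs, hfixs⟩ := hpair
  have hyE : y ∉ fourElts a b := by simpa using hyE' 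
  have ext12 : ∀ {l l' : List ℕ}, l.length = 12 → l'.length = 12 → (∀ i < 12, l.getD i 0 = l'.getD i 0) → l = l' :=
    fun hl hl' h => List.ext_getElem (hl.trans hl'.symm) fun i h₁ h₂ => by
      rw [← List.getD_eq_getElem (d := 0), ← List.getD_eq_getElem (d := 0)]; exact h i (hl ▸ h₁)
  have hI : ∀ {x}, x ∈ fInvols → x < 60 := fun hx => List.mem_range.1 (List.mem_filter.1 hx).1
  have hIv : ∀ {x}, x ∈ fInvols → val (φ x) * val (φ x) = 1 ∧ val (φ x) ≠ 1 := fun {x} hx => by
    obtain ⟨h1, h2⟩ := (fInvols_spec x (hI hx)).2 hx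
    exact ⟨by rw [← vφ (hI hx) (hI hx), h1, v1], fun h => h2 (phi_eq (hI hx) (by norm_num) (h.trans v1.symm))⟩
  have inj_sig : ∀ x ∈ fInvols, ∀ x' ∈ fInvols,
      ((fourElts a b).map fun g => fOrd (fMul x g)) = ((fourElts a b).map fun g => fOrd (fMul x' g)) → x = x' := by
    intro x hx x' hx' h
    rcases hinjs x hx x' hx' with h' | h'
    · exact h'
    · exact absurd h (by simpa using h')
  set Y := val (φ y) with hY
  have hYl := hI hyI
  have hYcentv : ∀ l : L, val l * ψ vC = ψ vC * val l := fun l => mem_centralizer_singleton_iff.1 l.1.2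
  -- it is fixed by the inverting involution
  have hYt : t * Y * t = Y := by
    have hmem : t * Y * t ∈ centralizer ({ψ vC} : Set G) := mul_mem (mul_mem (D.code_mem hsc) (φ y).1.2) (D.code_mem hsc)
    have hin : (⟨t * Y * t, hmem⟩ : ↥(centralizer ({ψ vC} : Set G))) ∈ L := by
      have h := (inferInstance : L.Normal).conj_mem _ (φ y).2 (D.kElt hsc)
      convert h using 1
      refine Subtype.ext ?_
      show t * Y * t = t * Y * t⁻¹
      rw [ti]
    obtain ⟨y', hy', ey'⟩ := C.surj ⟨_, hin⟩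
    have ev' : val (φ y') = t * Y * t := by rw [ey']
    have hy'I : y' ∈ fInvols := by
      refine (fInvols_spec y' hy').1 ⟨phi_eq (fl hy' hy') (by norm_num) ?_, fun h => ?_⟩
      · rw [vφ hy' hy', ev', v1]
        calc t * Y * t * (t * Y * t) = t * (Y * (t * t) * Y) * t := by group
          _ = _ := by rw [tt, mul_one, (hIv hyI).1, mul_one, tt]
      · rw [h, v1] at ev'
        refine (hIv hyI).2 ?_
        calc Y = t * (t * Y * t) * t := by rw [show t * (t * Y * t) * t = t * t * Y * (t * t) by group, tt]; group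
          _ = 1 := by rw [← ev', mul_one, tt]
    have hsig : ((fourElts a b).map fun g => fOrd (fMul y' g)) = sigY := by
      refine ext12 (by rw [List.length_map, hlenE]) sigY_facts.1 fun i hi => ?_
      rw [inv_sig hYl hy' ev'.symm i hi, hysig]
      exact (by decide : ∀ i < 12, sigY.getD (sigPerm.getD i 0) 0 = sigY.getD i 0) i hi
    rw [← ev', inj_sig y' hy'I y hyI (hsig.trans hysig.symm)]
  have hYconj : IsConj z Y := by
    have haI : a ∈ fInvols := (fInvols_spec a ha).1 ⟨phi_eq (fl ha ha) (by norm_num) (by rw [vφ ha ha, va, M.zz, v1]),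
      fun h => M.z_ne (by rw [← va, h, v1])⟩
    obtain ⟨g, hg, eg⟩ := List.any_eq_true.1 (invol_conj_all a haI y hyI)
    have hgl := List.mem_range.1 hg
    refine isConj_iff.2 ⟨val (φ g), mul_inv_eq_iff_eq_mul.2 ?_⟩
    rw [← va, ← vφ hgl ha, hY, ← vφ hYl hgl, beq_iff_eq.1 eg]
  -- conjugation by the element of order three
  set k := ψ kC with hkdef
  have kv : k * ψ vC * k⁻¹ = t := by rw [M.conj hk (by norm_num), hkv]
  have kt : k * t * k⁻¹ = ψ (mC vC sC) := by rw [ht, M.conj hk (by norm_num), hkt]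
  have vt : ψ (mC vC sC) * t = ψ vC := by rw [ht, M.mul _ hvt _ (by norm_num), hvtt]
  have kz : k * z * k⁻¹ = z := mul_inv_eq_iff_eq_mul.2 (M.comm_z hk)
  have step : ∀ x : G, IsConj z x → x * ψ vC = ψ vC * x → x * t = t * x → x ≠ z →
      IsConj z (k * x * k⁻¹) ∧ (k * x * k⁻¹) * ψ vC = ψ vC * (k * x * k⁻¹) ∧
        (k * x * k⁻¹) * t = t * (k * x * k⁻¹) ∧ k * x * k⁻¹ ≠ z ∧
        ∃ x' ∈ fInvols, val (φ x') = k * x * k⁻¹ ∧
          (((fourElts a b).map fun g => fOrd (fMul x' g)) = sigY ∨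
            ((fourElts a b).map fun g => fOrd (fMul x' g)) = sigY') := by
    intro x hx hxv hxt hxz
    have h1 : IsConj z (k * x * k⁻¹) := hx.trans (isConj_iff.2 ⟨k, rfl⟩)
    have h3 : Commute (k * x * k⁻¹) t := by
      rw [← kv, commute_iff_eq]
      calc k * x * k⁻¹ * (k * ψ vC * k⁻¹) = k * (x * ψ vC) * k⁻¹ := by group
        _ = k * (ψ vC * x) * k⁻¹ := by rw [hxv]
        _ = _ := by group
    have h3' : Commute (k * x * k⁻¹) (ψ (mC vC sC)) := by
      rw [← kt, commute_iff_eq]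
      calc k * x * k⁻¹ * (k * t * k⁻¹) = k * (x * t) * k⁻¹ := by group
        _ = k * (t * x) * k⁻¹ := by rw [hxt]
        _ = _ := by group
    have h2 : Commute (k * x * k⁻¹) (ψ vC) := vt ▸ h3'.mul_right h3
    have h4 : k * x * k⁻¹ ≠ z := fun h => hxz (mul_left_cancel (mul_right_cancel (h.trans kz.symm)))
    refine ⟨h1, h2.eq, h3.eq, h4, ?_⟩
    obtain ⟨x', hx', ex⟩ := C.surj ⟨⟨k * x * k⁻¹, mem_centralizer_singleton_iff.2 h2.eq⟩, R.z_class_mem h1⟩
    have ev : val (φ x') = k * x * k⁻¹ := by rw [ex]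
    obtain ⟨hs1, hs2⟩ := D.zclass_sq h1
    have hxI : x' ∈ fInvols := (fInvols_spec x' hx').1
      ⟨phi_eq (fl hx' hx') (by norm_num) (by rw [vφ hx' hx', ev, hs1, v1]), fun h => hs2 (by rw [← ev, h, v1])⟩
    refine ⟨x', hxI, ev, ?_⟩
    have hfix : (sigPerm.map fun i => ((fourElts a b).map fun g => fOrd (fMul x' g)).getD i 0) =
        ((fourElts a b).map fun g => fOrd (fMul x' g)) := by
      refine ext12 (by rw [List.length_map]; rfl) (by rw [List.length_map, hlenE]) fun i hi => ?_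
      have hlp : i < sigPerm.length := hi
      rw [List.getD_eq_getElem _ _ (by rw [List.length_map]; exact hlp), List.getElem_map]
      have he : t * val (φ x') * t = val (φ x') := by
        rw [ev, ← h3.eq, mul_assoc, tt, mul_one]
      rw [inv_sig hx' hx' he i hi, List.getD_eq_getElem sigPerm 0 hlp]
    rcases hfixs x' hxI with h | h | h | h
    · exact absurd hfix (by simpa using h)
    · exact absurd (by rw [← ev, h, va]) h4
    · exact Or.inl h
    · exact Or.inr h
  have hYne : Y ≠ z := fun h => hyE (by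
    rw [show y = a from phi_eq hYl ha (h.trans va.symm)]
    simp [fourElts])
  have hYt' : Y * t = t * Y := by
    calc Y * t = t * Y * t * t := by rw [hYt]
      _ = _ := by rw [mul_assoc (t * Y), tt, mul_one]
  have hYk : k * Y * k⁻¹ = Y := by
    obtain ⟨p1, p2, p3, p4, y₁, hy₁, e₁, s₁⟩ := step Y hYconj (hYcentv _) hYt' hYne
    rcases s₁ with s₁ | s₁
    · rw [← e₁, inj_sig y₁ hy₁ y hyI (s₁.trans hysig.symm)]
    obtain ⟨-, -, -, -, y₂, hy₂, e₂, s₂⟩ := step _ p1 p2 p3 p4
    have k3 : k * k * k = 1 := by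
      rw [hkdef, M.mul _ hk _ hk, M.mul _ (mC_lt _ hk _ hk) _ hk, hk3, M.one]
    rcases s₂ with s₂ | s₂
    · have h : k * (k * Y * k⁻¹) * k⁻¹ = Y := by rw [← e₂, inj_sig y₂ hy₂ y hyI (s₂.trans hysig.symm)]
      calc k * Y * k⁻¹ = k * (k * (k * Y * k⁻¹) * k⁻¹) * k⁻¹ := by rw [h]
        _ = k * k * k * Y * (k * k * k)⁻¹ := by group
        _ = Y := by rw [k3]; group
    · have h : k * (k * Y * k⁻¹) * k⁻¹ = k * Y * k⁻¹ := by
        rw [← e₂, inj_sig y₂ hy₂ y₁ hy₁ (s₂.trans s₁.symm), e₁]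
      exact mul_left_cancel (mul_right_cancel h)
  refine ⟨Y, (hIv hyI).1, hYcentv _, hYt', mul_inv_eq_iff_eq_mul.1 (by
    calc Y * k * Y⁻¹ = Y * k * Y := by rw [inv_eq_of_mul_eq_one_right (hIv hyI).1]
      _ = Y * (k * Y * k⁻¹) * k := by group
      _ = k := by rw [hYk, (hIv hyI).1, one_mul]), fun i hi => ?_, ?_⟩
  · have h := sigval hYl i hi
    rw [hysig] at h
    rw [h, pow_orderOf_eq_one]
  intro H hH hw hy x hx
  let T : Subgroup L := (H.comap (centralizer ({ψ vC} : Set G)).subtype).comap L.subtype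
  have hmemT : ∀ l : L, l ∈ T ↔ val l ∈ H := fun l => Iff.rfl
  have hTtop : T = ⊤ := by
    have hin : ∀ i < 12, φ ((fourElts a b).getD i 0) ∈ T := fun i hi => by
      rw [hmemT, (elts i hi).2]
      exact mul_mem (hH _ (sigPairs_swap i hi).1) (pow_mem hw _)
    let f : Fin 13 → T := fun i => if h : i.1 < 12 then ⟨_, hin i h⟩ else ⟨φ y, (hmemT _).2 hy⟩
    have hf : Function.Injective f := by
      intro i j e
      have key : ∀ i, i < 12 → φ ((fourElts a b).getD i 0) ≠ φ y := fun i hi h => hyE (by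
        rw [← C.inj _ (elts i hi).1 y hYl h, List.getD_eq_getElem _ _ (by rw [hlenE]; exact hi)]
        simpa using List.getElem_mem _)
      simp only [f] at e
      split_ifs at e with h1 h2 h2
      · have := C.inj _ (elts i h1).1 _ (elts j h2).1 (Subtype.mk.inj e)
        rw [List.getD_eq_getElem _ _ (by rw [hlenE]; exact h1),
          List.getD_eq_getElem _ _ (by rw [hlenE]; exact h2)] at this
        exact Fin.ext (hnd.getElem_inj_iff.1 this)
      · exact absurd (Subtype.mk.inj e) (key i h1)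
      · exact absurd (Subtype.mk.inj e).symm (key j h2)
      · exact Fin.ext (by omega)
    have hcard13 : 13 ≤ Nat.card T := by simpa using Nat.card_le_card_of_injective f hf
    have h60 : Nat.card L = 60 := by
      rw [Nat.card_congr e.toEquiv, nat_card_alternatingGroup]; simp [Nat.factorial]
    have hd : Nat.card T ∣ 60 := h60 ▸ T.card_subgroup_dvd_card
    have h2 : 4 ∣ Nat.card T := by
      let F₄ : Subgroup L :=
        { carrier := {l | ∃ c ∈ fourList, ψ c = val l}
          one_mem' := ⟨0, by simp [fourList], M.one⟩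
          mul_mem' := by
            rintro l l' ⟨c, hc', ec⟩ ⟨c', hc'', ec'⟩
            refine ⟨mC c c', (four_table c hc' c' hc'').1, ?_⟩
            rw [vmul, ← ec, ← ec', M.mul c (hF c hc').2 c' (hF c' hc'').2]
          inv_mem' := by
            rintro l ⟨c, hc', ec⟩
            refine ⟨c, hc', ?_⟩
            rw [vinv, ← ec, eq_comm]
            refine inv_eq_of_mul_eq_one_right ?_
            rw [M.mul c (hF c hc').2 c (hF c hc').2, (by decide +kernel : ∀ c ∈ fourList, mC c c = 0) c hc', M.one] }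
      have hle : F₄ ≤ T := fun l ⟨c, hc', ec⟩ => by rw [hmemT, ← ec]; exact hH c (hF c hc').2
      let g : {c // c ∈ fourList.toFinset} → F₄ := fun c =>
        ⟨⟨D.kElt (hF c (List.mem_toFinset.1 c.2)).1, R.four c (List.mem_toFinset.1 c.2)⟩,
          ⟨c, List.mem_toFinset.1 c.2, rfl⟩⟩
      have hg : Function.Bijective g := by
        refine ⟨fun c d e => Subtype.ext (M.inj c (hF c (List.mem_toFinset.1 c.2)).2 d
          (hF d (List.mem_toFinset.1 d.2)).2 (congrArg (fun q : F₄ => val q.1) e)), fun l => ?_⟩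
        obtain ⟨c, hc', ec⟩ := l.2
        exact ⟨⟨c, List.mem_toFinset.2 hc'⟩, Subtype.ext (vinj ec)⟩
      have hc4 : Nat.card F₄ = 4 := by
        rw [← Nat.card_eq_of_bijective g hg, Nat.card_eq_fintype_card, Fintype.card_coe]; rfl
      exact hc4 ▸ Subgroup.card_dvd_of_le hle
    have h3 : 3 ∣ Nat.card T := by
      haveI : Fact (Nat.Prime 3) := ⟨Nat.prime_three⟩
      have ho : orderOf (φ b) = 3 := by
        refine orderOf_eq_prime (vinj ?_) fun h => ?_
        · show (φ b ^ 3 : L).1.1 = 1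
          simp only [SubmonoidClass.coe_pow]
          rw [show (φ b).1.1 = w from vb]; exact w3
        · have hw1 : w = 1 := by rw [← vb, h]; rfl
          have e2 := D.w_p
          rw [hw1, one_mul, inv_one, mul_one, ← M.at_z] at e2
          have := M.inj pC (by norm_num) zC (by norm_num) e2
          norm_num at this
      exact ho ▸ Subgroup.orderOf_dvd_natCard T ((hmemT _).2 (by rw [vb]; exact hw))
    refine Subgroup.eq_top_of_card_eq _ ?_
    rw [h60]
    have h12 : 12 ∣ Nat.card T := Nat.Coprime.mul_dvd_of_dvd_of_dvd (by norm_num : Nat.Coprime 4 3) h2 h3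
    obtain ⟨m, hm⟩ := h12
    have : m ∣ 5 := Nat.dvd_of_mul_dvd_mul_left (by norm_num : 0 < 12) (by rw [← hm]; exact hd)
    rcases (Nat.dvd_prime Nat.prime_five).1 this with rfl | rfl <;> omega
  obtain ⟨cc, hcc, hmem⟩ := R.cover ⟨x, mem_centralizer_singleton_iff.2 hx⟩
  have h1 : (⟨_, hmem⟩ : L) ∈ T := hTtop ▸ mem_top _
  rw [hmemT] at h1
  have h2 := mul_mem h1 (hH cc (centList_lt vC vList_facts.1 cc hcc))
  convert h2 using 1
  show x = x * (ψ cc)⁻¹ * ψ cc
  rw [inv_mul_cancel_right]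

end CaseA

end CfsgLib.Spor.MTwelveCent
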