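import Cfsg.Agent.Lib.Spor.MTwelveCent.CentV

/-!
# The structure of the kernel
-/

set_option autoImplicit false
set_option linter.unusedSectionVars false
set_option maxRecDepth 100000

namespace CfsgLib.Spor.MTwelveCent

open Subgroup

theorem four_table : ∀ c ∈ fourList, ∀ d ∈ fourList, mC c d ∈ fourList ∧ commC c d = true := by decide +kernel

/-- The properties of the kernel. -/
structure Ker {G : Type*} [Group G] [Finite G] {z : G} {ψ : ℕ → G} {w : G} (D : CaseA z ψ w)
    (L : Subgroup ↥(centralizer ({ψ vC} : Set G))) : Prop where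
  normal : L.Normal
  four : ∀ c, (hc : c ∈ fourList) → D.kElt (vList_facts.2.2.2.2.2.2.2.1 c hc).1 ∈ L
  inter : ∀ c, (hc : c ∈ centList vC) → D.kElt hc ∈ L → c ∈ fourList
  squares : ∀ x, x * x ∈ L

namespace CaseA

variable {G : Type*} [Group G] [Finite G] {z : G} {ψ : ℕ → G} {w : G} (D : CaseA z ψ w)
include D

theorem exists_ker : ∃ L, Ker D L := by
  obtain ⟨L, h1, h2, h3, h4⟩ := D.exists_kernel
  exact ⟨L, h1, h2, h3, h4⟩

end CaseA

namespace Ker

variable {G : Type*} [Group G] [Finite G] {z : G} {ψ : ℕ → G} {w : G} {D : CaseA z ψ w}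
  {L : Subgroup ↥(centralizer ({ψ vC} : Set G))} (R : Ker D L)
include R

theorem cover (x : ↥(centralizer ({ψ vC} : Set G))) :
    ∃ c, ∃ hc : c ∈ centList vC, x * (D.kElt hc)⁻¹ ∈ L := by
  classical
  haveI : Fact (Nat.Prime 2) := ⟨Nat.prime_two⟩
  haveI := R.normal
  obtain ⟨P, hP⟩ : ∃ P : Sylow 2 ↥(centralizer ({ψ vC} : Set G)), ∀ x : ↥(centralizer ({ψ vC} : Set G)), x ∈ (P : Subgroup ↥(centralizer ({ψ vC} : Set G))) ↔ ∃ c ∈ centList vC, ψ c = x.1 :=
    D.exists_sylow_v
  have hq : IsPGroup 2 (↥(centralizer ({ψ vC} : Set G)) ⧸ L) := fun y => by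
    obtain ⟨g, rfl⟩ := QuotientGroup.mk_surjective y
    refine ⟨1, ?_⟩
    rw [pow_one, sq, ← QuotientGroup.mk_mul, QuotientGroup.eq_one_iff]
    exact R.squares g
  have htop : ((P.mapSurjective (QuotientGroup.mk'_surjective L)) : Subgroup (↥(centralizer ({ψ vC} : Set G)) ⧸ L)) = ⊤ :=
    (P.mapSurjective (QuotientGroup.mk'_surjective L)).is_maximal' (Q := ⊤) (hq.to_subgroup ⊤) le_top |>.symm
  have hx : QuotientGroup.mk' L x ∈ ((P.mapSurjective (QuotientGroup.mk'_surjective L)) : Subgroup (↥(centralizer ({ψ vC} : Set G)) ⧸ L)) :=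
    htop ▸ mem_top _
  rw [Sylow.coe_mapSurjective] at hx
  obtain ⟨y, hy, e⟩ := hx
  obtain ⟨c, hc, ec⟩ := (hP y).1 hy
  refine ⟨c, hc, ?_⟩
  rw [show D.kElt hc = y from Subtype.ext ec]
  have h := QuotientGroup.eq.1 (show ((y : ↥(centralizer ({ψ vC} : Set G))) : ↥(centralizer ({ψ vC} : Set G)) ⧸ L) = (x : ↥(centralizer ({ψ vC} : Set G)) ⧸ L) from e)
  have h2 := (inferInstance : L.Normal).conj_mem _ h y
  rwa [show y * (y⁻¹ * x) * y⁻¹ = x * y⁻¹ by group] at h2

theorem card_le : Nat.card ↥(centralizer ({ψ vC} : Set G)) ≤ 4 * Nat.card L := by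
  classical
  haveI := R.normal
  have key : ∀ x : ↥(centralizer ({ψ vC} : Set G)) ⧸ L, ∃ c ∈ [0, vC, sC, mC sC vC], ∀ h : c ∈ centList vC, x = (D.kElt h : ↥(centralizer ({ψ vC} : Set G)) ⧸ L) := by
    intro x
    obtain ⟨g, rfl⟩ := QuotientGroup.mk_surjective x
    obtain ⟨c, hc, hgc⟩ := R.cover g
    have hgc' : (g : ↥(centralizer ({ψ vC} : Set G)) ⧸ L) = (D.kElt hc : ↥(centralizer ({ψ vC} : Set G)) ⧸ L) := by
      refine QuotientGroup.eq.2 ?_
      have h := (inferInstance : L.Normal).conj_mem _ (inv_mem hgc) g⁻¹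
      rwa [show g⁻¹ * (g * (D.kElt hc)⁻¹)⁻¹ * g⁻¹⁻¹ = g⁻¹ * D.kElt hc by group] at h
    rcases vList_facts.2.2.2.2.2.2.2.2.2.2.2.2.1 c hc with hF | ⟨f, hf, he⟩
    · refine ⟨0, by simp, fun h => hgc'.trans ?_⟩
      rw [(QuotientGroup.eq_one_iff (D.kElt hc)).2 (R.four c hF),
        show D.kElt h = 1 from Subtype.ext D.model.one]
      rfl
    · have sub : ∀ a, a ∈ [0, vC, sC, mC sC vC] → c = mC a f → ∀ h : a ∈ centList vC,
          (g : ↥(centralizer ({ψ vC} : Set G)) ⧸ L) = (D.kElt h : ↥(centralizer ({ψ vC} : Set G)) ⧸ L) := by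
        intro a _ e h
        have e' : D.kElt hc = D.kElt h * D.kElt (vList_facts.2.2.2.2.2.2.2.1 f hf).1 := Subtype.ext (by
          show ψ c = ψ a * ψ f
          rw [D.model.mul a (centList_lt vC vList_facts.1 a h) f (vList_facts.2.2.2.2.2.2.2.1 f hf).2, ← e])
        rw [hgc', e', QuotientGroup.mk_mul, (QuotientGroup.eq_one_iff _).2 (R.four f hf), mul_one]
      rcases he with he | he | he
      · exact ⟨vC, by simp, sub vC (by simp) he⟩
      · exact ⟨sC, by simp, sub sC (by simp) he⟩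
      · exact ⟨_, by simp, sub (mC sC vC) (by simp) he⟩
  have hm : ∀ c ∈ [0, vC, sC, mC sC vC], c ∈ centList vC := by decide +kernel
  choose F hF1 hF2 using key
  have hinj : Function.Injective (fun x => (⟨F x, List.mem_toFinset.2 (hF1 x)⟩ :
      {c // c ∈ [0, vC, sC, mC sC vC].toFinset})) := fun x y e => by
    have e' : F x = F y := congrArg Subtype.val e
    rw [hF2 x (hm _ (hF1 x)), hF2 y (hm _ (hF1 y))]
    exact congrArg (fun n : ↥(centralizer ({ψ vC} : Set G)) => (n : ↥(centralizer ({ψ vC} : Set G)) ⧸ L)) (Subtype.ext (congrArg ψ e'))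
  have h4 : Nat.card (↥(centralizer ({ψ vC} : Set G)) ⧸ L) ≤ 4 := by
    refine (Nat.card_le_card_of_injective _ hinj).trans ?_
    rw [Nat.card_eq_fintype_card, Fintype.card_coe]
    exact List.toFinset_card_le _
  rw [← L.index_mul_card]
  exact Nat.mul_le_mul_right _ h4

/-- The element of order three. -/
theorem w_mem : (⟨w, D.w_mem⟩ : ↥(centralizer ({ψ vC} : Set G))) ∈ L := by
  have h := R.squares (⟨w, D.w_mem⟩ * ⟨w, D.w_mem⟩)
  convert h using 1
  refine Subtype.ext ?_
  show w = w * w * (w * w)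
  rw [show w * w * (w * w) = w * w * w * w by group, D.cube, one_mul]

theorem four_iff {l : ↥(centralizer ({ψ vC} : Set G))} (hl : l ∈ L) :
    l.1 * z = z * l.1 ↔ ∃ c ∈ fourList, ψ c = l.1 := by
  have M := D.model
  constructor
  · intro h
    obtain ⟨c, hc, e⟩ := M.code_of_comm h
    have hcv : c ∈ centList vC := (centList_spec vC vList_facts.1 c hc).2 ((M.comm_iff hc (by norm_num)).1 (by
      rw [e]; exact mem_centralizer_singleton_iff.1 l.2))
    exact ⟨c, R.inter c hcv (by rwa [show D.kElt hcv = l from Subtype.ext e]), e⟩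
  · rintro ⟨c, hc, e⟩
    rw [← e]
    exact M.comm_z (vList_facts.2.2.2.2.2.2.2.1 c hc).2

/-- A conjugate of the central involution centralizing the other lies in the kernel. -/
theorem z_class_mem {x : ↥(centralizer ({ψ vC} : Set G))} (hx : IsConj z x.1) : x ∈ L := by
  classical
  haveI : Fact (Nat.Prime 2) := ⟨Nat.prime_two⟩
  haveI := R.normal
  have M := D.model
  obtain ⟨P, hP⟩ : ∃ P : Sylow 2 ↥(centralizer ({ψ vC} : Set G)), ∀ x : ↥(centralizer ({ψ vC} : Set G)), x ∈ (P : Subgroup ↥(centralizer ({ψ vC} : Set G))) ↔ ∃ c ∈ centList vC, ψ c = x.1 :=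
    D.exists_sylow_v
  have hx2 : x.1 * x.1 = 1 ∧ x.1 ≠ 1 := by
    obtain ⟨g, e⟩ := isConj_iff.1 hx
    rw [← e]
    exact ⟨by rw [show g * z * g⁻¹ * (g * z * g⁻¹) = g * (z * z) * g⁻¹ by group, M.zz]; group,
      fun h => M.z_ne (conj_eq_one_iff.1 h)⟩
  have hord : orderOf x = 2 := by
    rw [← Subgroup.orderOf_coe]; exact orderOf_eq_prime (by rw [sq]; exact hx2.1) hx2.2
  have hp : IsPGroup 2 (zpowers x) := IsPGroup.of_card (n := 1) (by rw [Nat.card_zpowers, hord, pow_one])
  obtain ⟨P', hP'⟩ := hp.exists_le_sylow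
  obtain ⟨g, hg⟩ := MulAction.exists_smul_eq ↥(centralizer ({ψ vC} : Set G)) P' P
  have hgx : g * x * g⁻¹ ∈ (P : Subgroup ↥(centralizer ({ψ vC} : Set G))) := by
    rw [← hg, Sylow.coe_subgroup_smul]
    exact ⟨x, hP' (mem_zpowers x), rfl⟩
  obtain ⟨c, hc, e⟩ := (hP _).1 hgx
  have hconj : IsConj z (ψ c) := hx.trans (isConj_iff.2 ⟨g.1, e.symm⟩)
  have hcl := centList_lt vC vList_facts.1 c hc
  have hci : c ∈ invList := by
    have h1 : ψ c * ψ c = 1 := by
      rw [e]
      show g.1 * x.1 * g.1⁻¹ * (g.1 * x.1 * g.1⁻¹) = 1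
      rw [show g.1 * x.1 * g.1⁻¹ * (g.1 * x.1 * g.1⁻¹) = g.1 * (x.1 * x.1) * g.1⁻¹ by group, hx2.1]; group
    rw [M.mul c hcl c hcl, M.eq_one_iff (mC_lt c hcl c hcl)] at h1
    rcases (invList_spec c hcl).1 h1 with rfl | h'
    · refine absurd ?_ hx2.2
      rw [M.one] at e
      exact conj_eq_one_iff.1 (e.symm : g.1 * x.1 * g.1⁻¹ = 1)
    · exact h'
  have hcF : c ∈ fourList := vList_facts.2.2.2.2.2.2.2.2.2.2.1 c hc ((D.z_iff hci).1 hconj)
  have hmem := R.four c hcF
  rw [show D.kElt _ = g * x * g⁻¹ from Subtype.ext e] at hmem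
  have h2 := (inferInstance : L.Normal).conj_mem _ hmem g⁻¹
  rwa [show g⁻¹ * (g * x * g⁻¹) * g⁻¹⁻¹ = x by group] at h2

/-- The three involutions of the four group are conjugate in the kernel. -/
theorem conj_four (c : ℕ) (hc : c ∈ [zC, pC, 161]) : ∃ g : L, g.1.1 * ψ zC * (g.1.1)⁻¹ = ψ c := by
  have M := D.model
  have h161 := vList_facts.2.2.2.2.2.2.1
  let W : L := ⟨⟨w, D.w_mem⟩, R.w_mem⟩
  simp only [List.mem_cons, List.not_mem_nil, or_false] at hc
  rcases hc with rfl | rfl | rfl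
  · exact ⟨1, by simp⟩
  · refine ⟨W * W, ?_⟩
    show w * w * ψ zC * (w * w)⁻¹ = ψ pC
    rw [M.at_z, show w * w * z * (w * w)⁻¹ = w * (w * z * w⁻¹) * w⁻¹ by group, D.w_z, D.w_zp]
  · refine ⟨W, ?_⟩
    show w * ψ zC * w⁻¹ = ψ 161
    rw [M.at_z, D.w_z, h161]

/-- The kernel is small or alternating. -/
theorem small_or_alt : Nat.card L ≤ 12 ∨ Nonempty (L ≃* alternatingGroup (Fin 5)) := by
  classical
  haveI : Fact (Nat.Prime 2) := ⟨Nat.prime_two⟩
  have M := D.model
  obtain ⟨-, -, hzc, -, -, hpc, h161, hF, -⟩ := vList_facts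
  have hz4 : zC ∈ fourList := by simp [fourList]
  let x : L := ⟨D.kElt hzc, R.four zC hz4⟩
  let W : L := ⟨⟨w, D.w_mem⟩, R.w_mem⟩
  have hxval : (x : ↥(centralizer ({ψ vC} : Set G))).1 = z := M.at_z
  have hx : orderOf x = 2 := by
    rw [← Subgroup.orderOf_coe, ← Subgroup.orderOf_coe]
    exact (congrArg orderOf hxval).trans M.ord
  have hval : ∀ a b : L, a = b ↔ (a : ↥(centralizer ({ψ vC} : Set G))).1 = b.1.1 :=
    fun a b => ⟨fun h => by rw [h], fun h => Subtype.ext (Subtype.ext h)⟩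
  have hcent : ∀ a : L, a ∈ centralizer ({x} : Set L) ↔ ∃ c ∈ fourList, ψ c = a.1.1 := fun a => by
    rw [mem_centralizer_singleton_iff, ← R.four_iff a.2, hval]
    show a.1.1 * (x : ↥(centralizer ({ψ vC} : Set G))).1 = _ * a.1.1 ↔ _
    rw [hxval]
  have hfl : fourList.length = 4 ∧ fourList.Nodup := by decide +kernel
  have hC4 : Nat.card (centralizer ({x} : Set L)) = 4 := by
    let f : {c // c ∈ fourList.toFinset} → centralizer ({x} : Set L) := fun c =>
      ⟨⟨D.kElt (hF c (List.mem_toFinset.1 c.2)).1, R.four c (List.mem_toFinset.1 c.2)⟩,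
        (hcent _).2 ⟨c, List.mem_toFinset.1 c.2, rfl⟩⟩
    have hf : Function.Bijective f := by
      refine ⟨fun c d e => ?_, fun a => ?_⟩
      · exact Subtype.ext (M.inj c (hF c (List.mem_toFinset.1 c.2)).2 d (hF d (List.mem_toFinset.1 d.2)).2
          (congrArg (fun a : centralizer ({x} : Set L) => a.1.1.1) e))
      · obtain ⟨c, hc, e⟩ := (hcent a.1).1 a.2
        exact ⟨⟨c, List.mem_toFinset.2 hc⟩, Subtype.ext (Subtype.ext (Subtype.ext e))⟩
    rw [← Nat.card_eq_of_bijective f hf, Nat.card_eq_fintype_card, Fintype.card_coe,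
      List.toFinset_card_of_nodup hfl.2, hfl.1]
  have hsq : ∀ c ∈ fourList, mC c c = 0 := by decide +kernel
  have hCe : ∀ c ∈ centralizer ({x} : Set L), c ^ 2 = 1 := fun a ha => by
    obtain ⟨c, hc, e⟩ := (hcent a).1 ha
    rw [hval, sq]
    show a.1.1 * a.1.1 = 1
    rw [← e, M.mul c (hF c hc).2 c (hF c hc).2, hsq c hc, M.one]
  have hwne : W ≠ 1 := fun h => by
    have hw : w = 1 := (hval W 1).1 h
    have e := D.w_z
    rw [hw, one_mul, inv_one, mul_one, ← M.at_z] at e
    have := M.inj zC (by norm_num) _ (mC_lt _ (by norm_num) _ (by norm_num)) e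
    revert this; decide +kernel
  by_cases hne : ∀ E : Subgroup L, E.Normal → Cfsg.IsElementaryAbelian 2 E → Nat.card E ≠ 2 ∧ Nat.card E ≠ 4
  · refine Or.inr (CfsgLib.Invol.iso_alternating_five hx hC4 hCe (fun hnc => hwne ?_) hne)
    obtain ⟨P, N, hNn, hN⟩ := hnc
    haveI := hNn
    have hodd : Odd (Nat.card N) := by
      rw [← hN.index_eq_card]
      · exact Nat.not_even_iff_odd.1 fun h => P.not_dvd_index h.two_dvd
    have hinv : ∀ c, (hc : c ∈ [zC, pC, 161]) → ∀ n ∈ N, ∀ hc' : c ∈ fourList,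
        (⟨D.kElt (hF c hc').1, R.four c hc'⟩ : L) * n * ⟨D.kElt (hF c hc').1, R.four c hc'⟩ = n⁻¹ := by
      intro c hc n hn hc'
      set f : L := ⟨D.kElt (hF c hc').1, R.four c hc'⟩ with hf
      have hff : f * f = 1 := by
        rw [hval]
        show ψ c * ψ c = 1
        rw [M.mul c (hF c hc').2 c (hF c hc').2, hsq c hc', M.one]
      obtain ⟨g, hg⟩ := R.conj_four c hc
      refine inverts_of_fixed_trivial hodd hff (fun y hy => ?_) (fun y hy e => ?_) n hn
      · have h := hNn.conj_mem y hy f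
        rwa [inv_eq_of_mul_eq_one_right hff] at h
      · have hgy : g⁻¹ * y * g ∈ centralizer ({x} : Set L) := by
          have hxg : (⟨⟨g.1.1, g.1.2⟩, g.2⟩ : L) * x * g⁻¹ = f := (hval _ _).2 hg
          rw [mem_centralizer_singleton_iff]
          calc g⁻¹ * y * g * x = g⁻¹ * (y * (g * x * g⁻¹)) * g := by group
            _ = g⁻¹ * (g * x * g⁻¹ * y) * g := by rw [show g * x * g⁻¹ = f from hxg, ← e]
            _ = _ := by group
        have h2 : (g⁻¹ * y * g) ^ 2 = 1 := hCe _ hgy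
        have h3 : y ^ 2 = 1 := by
          have h4 : (MulAut.conj g⁻¹) y ^ 2 = 1 := by simpa using h2
          rw [← map_pow] at h4
          exact (MulAut.conj g⁻¹).injective (h4.trans (map_one _).symm)
        have h1 : orderOf y ∣ 2 := orderOf_dvd_of_pow_eq_one h3
        have h5 : orderOf y ∣ Nat.card N := Subgroup.orderOf_dvd_natCard N hy
        exact orderOf_eq_one_iff.1 (Nat.eq_one_of_dvd_coprimes (Nat.coprime_two_left.2 hodd) h1 h5)
    have hNbot : N = ⊥ := (Subgroup.eq_bot_iff_forall _).2 fun n hn => by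
      have q4 : (161 : ℕ) ∈ fourList := by simp [fourList]
      have p4 : pC ∈ fourList := by simp [fourList]
      set a : L := ⟨D.kElt (hF zC hz4).1, R.four zC hz4⟩
      set b : L := ⟨D.kElt (hF pC p4).1, R.four pC p4⟩
      set c : L := ⟨D.kElt (hF 161 q4).1, R.four 161 q4⟩
      have hab : a * b = c := by
        rw [hval]
        show ψ zC * ψ pC = ψ 161
        rw [M.mul zC (by norm_num) pC (by norm_num), h161]
      have hba : b * a = c := by
        rw [hval]
        show ψ pC * ψ zC = ψ 161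
        rw [M.mul pC (by norm_num) zC (by norm_num), h161, step_facts.2.2.2.1]
      have h1 := hinv zC (by simp) n hn hz4
      have h2 := hinv pC (by simp) _ (inv_mem hn) p4
      have h3 := hinv 161 (by simp) n hn q4
      have h4 : c * n * c = n := by
        calc c * n * c = b * a * n * (a * b) := by rw [hba, hab]
          _ = b * (a * n * a) * b := by group
          _ = _ := by rw [h1, h2, inv_inv]
      rw [h3] at h4
      have hn2 : n ^ 2 = 1 := by rw [sq]; nth_rewrite 1 [← h4]; group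
      have h5 : orderOf n ∣ Nat.card N := Subgroup.orderOf_dvd_natCard N hn
      exact orderOf_eq_one_iff.1
        (Nat.eq_one_of_dvd_coprimes (Nat.coprime_two_left.2 hodd) (orderOf_dvd_of_pow_eq_one hn2) h5)
    obtain ⟨k, hk⟩ := IsPGroup.iff_card.1 P.isPGroup'
    have hcard : Nat.card L = 2 ^ k := by
      rw [← hN.card_mul, hk, hNbot, Subgroup.card_bot, one_mul]
    have hd : orderOf W ∣ 2 ^ k := hcard ▸ orderOf_dvd_natCard W
    have hd3 : orderOf W ∣ 3 := orderOf_dvd_of_pow_eq_one (by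
      rw [hval]; show w ^ 3 = 1; rw [pow_succ, pow_two, D.cube])
    exact orderOf_eq_one_iff.1 (Nat.eq_one_of_dvd_coprimes
      (Nat.Coprime.pow_left k (by norm_num : Nat.Coprime 2 3)) hd hd3)
  push Not at hne
  obtain ⟨E, hEn, hE, hcard⟩ := hne
  haveI := hEn
  refine Or.inl ?_
  -- the normal subgroup is the four group
  haveI : IsMulCommutative E := hE.1
  have hE2 : IsPGroup 2 E := IsPGroup.of_card (n := if Nat.card E = 2 then 1 else 2) (by
    split_ifs with h
    · rw [h, pow_one]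
    · rw [hcard h]; norm_num)
  have hnt : 1 < Nat.card E := by
    by_cases h : Nat.card E = 2
    · omega
    · have := hcard h; omega
  haveI : Nontrivial E := (Finite.one_lt_card_iff_nontrivial).1 hnt
  obtain ⟨e₀, he₀, hne₀, hfix⟩ : ∃ e : L, e ∈ E ∧ e ≠ 1 ∧ x * e = e * x := by
    let σ : E → E := fun e => ⟨x * e * x⁻¹, hEn.conj_mem e e.2 x⟩
    by_contra hno
    push Not at hno
    have hinv : Function.Involutive σ := fun e => Subtype.ext (by
      show x * (x * (e : L) * x⁻¹) * x⁻¹ = e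
      have : x * x = 1 := by rw [← sq, ← hx, pow_orderOf_eq_one]
      calc x * (x * (e : L) * x⁻¹) * x⁻¹ = x * x * e * (x * x)⁻¹ := by group
        _ = e := by rw [this, inv_one, one_mul, mul_one])
    letI : Fintype E := Fintype.ofFinite E
    have h2 : 2 ∣ Fintype.card E := by
      rw [← Nat.card_eq_fintype_card]
      by_cases h : Nat.card E = 2
      · rw [h]
      · rw [hcard h]; norm_num
    obtain ⟨e, he, hne⟩ := Equiv.Perm.exists_fixed_point_of_prime' (p := 2) (n := 1) h2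
      (σ := hinv.toPerm σ) (Equiv.ext fun e => by simp [sq, hinv e]) (a := 1)
      (Subtype.ext (by show x * (1 : L) * x⁻¹ = 1; group))
    exact hno e.1 e.2 (fun h => hne (Subtype.ext h)) (mul_inv_eq_iff_eq_mul.1 (congrArg Subtype.val he))
  have hmemE : ∀ c, (hc : c ∈ fourList) → (⟨D.kElt (hF c hc).1, R.four c hc⟩ : L) ∈ E := by
    obtain ⟨c₀, hc₀, ec₀⟩ := (hcent e₀).1 (mem_centralizer_singleton_iff.2 hfix.symm)
    have hconj : ∀ a b, (ha : a ∈ fourList) → (hb : b ∈ fourList) → w * ψ a * w⁻¹ = ψ b →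
        (⟨D.kElt (hF a ha).1, R.four a ha⟩ : L) ∈ E → (⟨D.kElt (hF b hb).1, R.four b hb⟩ : L) ∈ E := by
      intro a b ha hb e h
      have h2 := hEn.conj_mem _ h W
      convert h2 using 1
      rw [hval]
      exact e.symm
    have z4 : zC ∈ fourList := hz4
    have p4 : pC ∈ fourList := by simp [fourList]
    have q4 : (161 : ℕ) ∈ fourList := by simp [fourList]
    have e1 : w * ψ zC * w⁻¹ = ψ 161 := by rw [M.at_z, D.w_z, h161]
    have e2 : w * ψ 161 * w⁻¹ = ψ pC := by rw [h161, D.w_zp]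
    have e3 : w * ψ pC * w⁻¹ = ψ zC := by rw [D.w_p, M.at_z]
    have hz : (⟨D.kElt hzc, R.four zC z4⟩ : L) ∈ E := by
      have h0 : (⟨D.kElt (hF c₀ hc₀).1, R.four c₀ hc₀⟩ : L) ∈ E := by
        rwa [show (⟨D.kElt (hF c₀ hc₀).1, R.four c₀ hc₀⟩ : L) = e₀ from (hval _ _).2 ec₀]
      simp only [fourList, List.mem_cons, List.not_mem_nil, or_false] at hc₀
      rcases hc₀ with rfl | rfl | rfl | rfl
      · exact absurd ((hval _ _).2 (by rw [← ec₀]; exact M.one)) hne₀
      · exact h0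
      · exact hconj _ _ p4 z4 e3 h0
      · exact hconj _ _ p4 z4 e3 (hconj _ _ q4 p4 e2 h0)
    intro c hc
    have hc' := hc
    simp only [fourList, List.mem_cons, List.not_mem_nil, or_false] at hc'
    rcases hc' with rfl | rfl | rfl | rfl
    · rw [show (⟨D.kElt (hF 0 hc).1, R.four 0 hc⟩ : L) = 1 from (hval _ _).2 M.one]; exact one_mem E
    · exact hz
    · exact hconj _ _ q4 p4 e2 (hconj _ _ z4 q4 e1 hz)
    · exact hconj _ _ z4 q4 e1 hz
  have hEcomm : ∀ a ∈ E, a * x = x * a := fun a ha =>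
    congrArg Subtype.val (IsMulCommutative.is_comm.comm (⟨a, ha⟩ : E) ⟨x, hmemE zC hz4⟩)
  -- three conjugates
  have hclass : Nat.card {y : L // IsConj x y} ≤ 3 := by
    have hsub : ∀ y : {y : L // IsConj x y}, ∃ c ∈ [zC, pC, 161], ψ c = y.1.1.1 := by
      rintro ⟨y, hy⟩
      obtain ⟨g, rfl⟩ := isConj_iff.1 hy
      have hy : g * x * g⁻¹ ∈ E := hEn.conj_mem _ (hmemE zC hz4) g
      obtain ⟨c, hc, ec⟩ := (hcent _).1 (mem_centralizer_singleton_iff.2 (hEcomm _ hy))
      simp only [fourList, List.mem_cons, List.not_mem_nil, or_false] at hc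
      rcases hc with rfl | h
      · exfalso
        rw [M.one] at ec
        have h1 : g * x * g⁻¹ = 1 := (hval _ 1).2 ec.symm
        rw [conj_eq_one_iff] at h1
        rw [h1, orderOf_one] at hx
        norm_num at hx
      · exact ⟨c, by simpa using h, ec⟩
    choose F hF1 hF2 using hsub
    have hinj : Function.Injective (fun y => (⟨F y, List.mem_toFinset.2 (hF1 y)⟩ :
        {c // c ∈ [zC, pC, 161].toFinset})) := fun a b e => by
      refine Subtype.ext ((hval _ _).2 ?_)
      rw [← hF2 a, ← hF2 b]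
      exact congrArg (fun q : {c // c ∈ [zC, pC, 161].toFinset} => ψ q.1) e
    refine (Nat.card_le_card_of_injective _ hinj).trans ?_
    rw [Nat.card_eq_fintype_card, Fintype.card_coe]
    exact List.toFinset_card_le _
  rw [← CfsgLib.Invol.card_isConj_mul x, hC4]
  omega

end Ker

end CfsgLib.Spor.MTwelveCent
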