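import Cfsg.Agent.Lib.Spor.MTwelveCent.Local
import Cfsg.Agent.Lib.Spor.MTwelveCent.AlphaFacts

/-!
# An element of order three normalizing the centralizer of a four group
-/

set_option autoImplicit false
set_option linter.unusedSectionVars false
set_option maxRecDepth 100000

namespace CfsgLib.Spor.MTwelveCent

open Subgroup

theorem uList_facts : Closed uList ∧ uList.Nodup ∧ uList.length = 32 ∧ zC ∈ uList ∧ pC ∈ uList ∧
    (∀ c < 192, commC c pC = true → c ∈ uList) ∧ (∀ c ∈ uList, c < 192 ∧ commC c pC = true) ∧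
    (∀ c ∈ uList, mC (mC (mC c c) (mC c c)) (mC (mC c c) (mC c c)) = 0) ∧
    (∀ c ∈ uList, conjC sC c ∈ uList) ∧ (∀ g ∈ uGens, g ∈ uList) ∧ uGens.length = 3 ∧
    (∀ i < 2, ∀ c ∈ uList, (relabelInv.getD i []).getD c 0 ∈ uList) := by decide +kernel

theorem uWords_spec : ∀ x ∈ uList, (uWords.getD (uList.idxOf x) []).foldl (fun r i => mC r (uGens.getD i 0)) 0 = x ∧
    ∀ i ∈ uWords.getD (uList.idxOf x) [], i < 3 := by decide +kernel

theorem step_facts : conjC sC pC = mC zC pC ∧ mC sC sC = 0 ∧ sC < 192 ∧ mC zC pC = mC pC zC ∧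
    (∀ c ∈ pList, ∃ k < 192, conjC k c = mC zC c) ∧ mC (uGens.getD 0 0) (uGens.getD 0 0) ≠ 0 ∧
    mC (uGens.getD 1 0) (uGens.getD 1 0) = 0 ∧ mC (uGens.getD 2 0) (uGens.getD 2 0) ≠ 0 ∧
    mC zC pC ∈ uList := by decide +kernel

theorem eList_sub : (∀ c ∈ eList, c ∈ uList) ∧ ∀ c ∈ fList, c ∈ uList := by decide +kernel

/-- The chosen element of order three with its action and inversion. -/
structure CaseA {G : Type*} [Group G] (z : G) (ψ : ℕ → G) (w : G) : Prop where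
  model : Model z ψ
  cube : w * w * w = 1
  act : ∀ x ∈ uList, w * ψ x * w⁻¹ = ψ (tabA.getD x 0)
  flip : ψ sC * w * (ψ sC)⁻¹ = w⁻¹

/-- An element normalizing the normal elementary group but moving the other class. -/
def CaseB {G : Type*} [Group G] (z : G) (ψ : ℕ → G) (w : G) : Prop :=
  w * z * w⁻¹ = ψ pC ∧ (∀ x ∈ eList, ∃ y ∈ eList, w * ψ x * w⁻¹ = ψ y) ∧
    (∃ r' ∈ sList, w * ψ vC * w⁻¹ = ψ r') ∧ ∃ r' ∈ sList, w⁻¹ * ψ vC * w = ψ r'

namespace Model

variable {G : Type*} [Group G] [Finite G] {z : G} {ψ : ℕ → G} (M : Model z ψ)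
include M

theorem relabelled {i : ℕ} (hi : i < 2) : Model z fun c => ψ ((relabelInv.getD i []).getD c 0) := by
  obtain ⟨hb, hz, -⟩ := relabel_facts i hi
  refine ⟨M.ord, fun c hc => M.mem _ (hb c hc).2.1, fun c hc d hd => relabel_hom M hi d hd c hc,
    fun c hc d hd e => ?_, fun g hg => ?_, ?_⟩
  · have e' := congrArg (fun n => (relabel.getD i []).getD n 0) (M.inj _ (hb c hc).2.1 _ (hb d hd).2.1 e)
    simp only [(hb c hc).2.2.2, (hb d hd).2.2.2] at e'
    exact e'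
  · obtain ⟨c, hc, e⟩ := M.surj g hg
    exact ⟨_, (hb c hc).1, by simp only [(hb c hc).2.2.1]; exact e⟩
  · show ψ ((relabelInv.getD i []).getD zC 0) = z
    rw [hz, M.at_z]

theorem mem_uList {x : G} (h₁ : x * z = z * x) (h₂ : x * ψ pC = ψ pC * x) : ∃ c ∈ uList, ψ c = x := by
  obtain ⟨c, hc, rfl⟩ := M.code_of_comm h₁
  exact ⟨c, uList_facts.2.2.2.2.2.1 c hc ((M.comm_iff hc (by norm_num)).1 h₂), rfl⟩

theorem exists_triple_step (hp : IsConj z (ψ pC)) :
    ∃ w : G, w * w * w = 1 ∧ w * z * w⁻¹ = ψ pC ∧ w * ψ pC * w⁻¹ = ψ (mC zC pC) ∧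
      w * ψ (mC zC pC) * w⁻¹ = z := by
  obtain ⟨hconjs, hss, hs, hzp, hk, -, -, -, -⟩ := step_facts
  obtain ⟨g, hg⟩ := isConj_iff.1 hp
  have hpP : pC ∈ pList := by decide +kernel
  have hpi := list_mem.2.1 pC hpP
  obtain ⟨c, hc, hcz, e, hlen⟩ := M.partner hpi (by decide) hg
  rw [((centList_length pC hpi (by decide)).1).2 hpP] at hlen
  have hcP := ((centList_length c hc hcz).1).1 hlen
  obtain ⟨k, hk', ek⟩ := hk c hcP
  have hcl := (invList_lt c hc).1
  set h := g * ψ k * g⁻¹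
  have h1 : h * z * h⁻¹ = ψ pC * z := by
    calc g * ψ k * g⁻¹ * z * (g * ψ k * g⁻¹)⁻¹
        = g * ψ k * g⁻¹ * (g * ψ c * g⁻¹) * (g * ψ k * g⁻¹)⁻¹ := by rw [e]
      _ = g * (ψ k * ψ c * (ψ k)⁻¹) * g⁻¹ := by group
      _ = g * (z * ψ c) * g⁻¹ := by rw [M.conj hk' hcl, ek, ← M.mul _ (by norm_num) c hcl, M.at_z]
      _ = g * z * g⁻¹ * (g * ψ c * g⁻¹) := by group
      _ = _ := by rw [hg, e]
  have h2 : h * ψ pC * h⁻¹ = ψ pC := by
    rw [← hg]
    calc g * ψ k * g⁻¹ * (g * z * g⁻¹) * (g * ψ k * g⁻¹)⁻¹ = g * (ψ k * z) * (ψ k)⁻¹ * g⁻¹ := by group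
      _ = g * (z * ψ k) * (ψ k)⁻¹ * g⁻¹ := by rw [M.comm_z hk']
      _ = _ := by group
  set t := ψ sC
  have t1 : t * z * t⁻¹ = z := mul_inv_eq_iff_eq_mul.2 (M.comm_z hs)
  have t2 : t * ψ pC * t⁻¹ = ψ (mC zC pC) := by rw [M.conj hs (by norm_num), hconjs]
  have hzp' : ψ (mC zC pC) = z * ψ pC := by rw [← M.mul zC (by norm_num) pC (by norm_num), M.at_z]
  have hcomm : ψ pC * z = z * ψ pC := M.comm_z (by norm_num)
  have pp : ψ pC * ψ pC = 1 := (M.code_ne hpi).2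
  set n := t * h with hn
  have n1 : n * z * n⁻¹ = ψ pC := by
    calc t * h * z * (t * h)⁻¹ = t * (h * z * h⁻¹) * t⁻¹ := by group
      _ = t * ψ pC * t⁻¹ * (t * z * t⁻¹) := by rw [h1]; group
      _ = z * ψ pC * z := by rw [t2, t1, hzp']
      _ = _ := by rw [mul_assoc, hcomm, ← mul_assoc, M.zz, one_mul]
  have n2 : n * ψ pC * n⁻¹ = ψ (mC zC pC) := by
    calc t * h * ψ pC * (t * h)⁻¹ = t * (h * ψ pC * h⁻¹) * t⁻¹ := by group
      _ = _ := by rw [h2, t2]
  have n3 : n * ψ (mC zC pC) * n⁻¹ = z := by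
    rw [hzp']
    calc n * (z * ψ pC) * n⁻¹ = n * z * n⁻¹ * (n * ψ pC * n⁻¹) := by group
      _ = _ := by rw [n1, n2, hzp', ← mul_assoc, hcomm, mul_assoc, pp, mul_one]
  have c1 : n * n * n * z = z * (n * n * n) := by
    refine mul_inv_eq_iff_eq_mul.1 ?_
    calc n * n * n * z * (n * n * n)⁻¹ = n * (n * (n * z * n⁻¹) * n⁻¹) * n⁻¹ := by group
      _ = _ := by rw [n1, n2, n3]
  have c2 : n * n * n * ψ pC = ψ pC * (n * n * n) := by
    refine mul_inv_eq_iff_eq_mul.1 ?_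
    calc n * n * n * ψ pC * (n * n * n)⁻¹ = n * (n * (n * ψ pC * n⁻¹) * n⁻¹) * n⁻¹ := by group
      _ = _ := by rw [n2, n3, n1]
  obtain ⟨q, hq, eq'⟩ := M.mem_uList c1 c2
  have hql := (uList_facts.2.2.2.2.2.2.1 q hq).1
  have h24 : (n * n * n) ^ 8 = 1 := by
    rw [← eq', show ψ q ^ 8 = ψ q * ψ q * (ψ q * ψ q) * (ψ q * ψ q * (ψ q * ψ q)) by simp [pow_succ, mul_assoc],
      M.mul q hql q hql, M.mul _ (mC_lt q hql q hql) _ (mC_lt q hql q hql),
      M.mul _ (mC_lt _ (mC_lt q hql q hql) _ (mC_lt q hql q hql)) _ (mC_lt _ (mC_lt q hql q hql) _ (mC_lt q hql q hql)),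
      uList_facts.2.2.2.2.2.2.2.1 q hq, M.one]
  set m := (n * n * n) ^ 5 with hm
  have m1 : m * z * m⁻¹ = z := mul_inv_eq_iff_eq_mul.2 ((show Commute (n * n * n) z from c1).pow_left 5).eq
  have m2 : m * ψ pC * m⁻¹ = ψ pC :=
    mul_inv_eq_iff_eq_mul.2 ((show Commute (n * n * n) (ψ pC) from c2).pow_left 5).eq
  have h3 : n * n * n = n ^ 3 := by rw [pow_succ, pow_two]
  refine ⟨n * m, ?_, ?_, ?_, ?_⟩
  · rw [show n * m * (n * m) * (n * m) = ((n * n * n) ^ 8) ^ 2 by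
      rw [hm, h3, ← pow_mul, ← pow_mul, ← pow_mul, ← pow_succ', ← pow_add, ← pow_add], h24, one_pow]
  · calc n * m * z * (n * m)⁻¹ = n * (m * z * m⁻¹) * n⁻¹ := by group
      _ = _ := by rw [m1, n1]
  · calc n * m * ψ pC * (n * m)⁻¹ = n * (m * ψ pC * m⁻¹) * n⁻¹ := by group
      _ = _ := by rw [m2, n2]
  · calc n * m * ψ (mC zC pC) * (n * m)⁻¹ = n * (m * z * m⁻¹ * (m * ψ pC * m⁻¹)) * n⁻¹ := by rw [hzp']; group
      _ = _ := by rw [m1, m2, ← hzp', n3]

/-- The action of such an element on the centralizer of the four group. -/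
theorem exists_triple_action {w : G} (w1 : w * z * w⁻¹ = ψ pC) (w2 : w * ψ pC * w⁻¹ = ψ (mC zC pC)) :
    ∀ x ∈ uList, ∃ y ∈ uList, w * ψ x * w⁻¹ = ψ y := by
  intro x hx
  obtain ⟨hl, hxp⟩ := uList_facts.2.2.2.2.2.2.1 x hx
  have cp : Commute (w * ψ x * w⁻¹) (ψ pC) := by
    rw [← w1, commute_iff_eq]
    calc w * ψ x * w⁻¹ * (w * z * w⁻¹) = w * (ψ x * z) * w⁻¹ := by group
      _ = w * (z * ψ x) * w⁻¹ := by rw [M.comm_z hl]
      _ = _ := by group
  have czp : Commute (w * ψ x * w⁻¹) (z * ψ pC) := by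
    rw [show z * ψ pC = w * ψ pC * w⁻¹ by rw [w2, ← M.mul zC (by norm_num) pC (by norm_num), M.at_z], commute_iff_eq]
    calc w * ψ x * w⁻¹ * (w * ψ pC * w⁻¹) = w * (ψ x * ψ pC) * w⁻¹ := by group
      _ = w * (ψ pC * ψ x) * w⁻¹ := by rw [(M.comm_iff hl (by norm_num)).2 hxp]
      _ = _ := by group
  have cz : Commute (w * ψ x * w⁻¹) z := by
    have h := czp.mul_right cp.inv_right
    rwa [mul_inv_cancel_right] at h
  obtain ⟨y, hy, e⟩ := M.mem_uList cz.eq cp.eq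
  exact ⟨y, hy, e.symm⟩

/-- The two cases. -/
theorem exists_case (hp : IsConj z (ψ pC)) :
    (∃ w, CaseB z ψ w) ∨ ∃ ψ' : ℕ → G, ∃ w, CaseA z ψ' w := by
  obtain ⟨w, w3, w1, w2, w4⟩ := M.exists_triple_step hp
  have hex : ∀ x, ∃ y, x ∈ uList → y ∈ uList ∧ w * ψ x * w⁻¹ = ψ y := fun x => by
    by_cases hx : x ∈ uList
    · obtain ⟨y, hy⟩ := M.exists_triple_action w1 w2 x hx; exact ⟨y, fun _ => hy⟩
    · exact ⟨0, fun h => absurd h hx⟩
  choose a ha using hex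
  obtain ⟨hU, -, -, hzU, hpU, -, hUlt, -, hsU, hgens, hglen, hrel⟩ := uList_facts
  obtain ⟨hconjs, hss, hs, hzpc, -, g0, g1, g2, -⟩ := step_facts
  have alt : ∀ {x}, x ∈ uList → x < 192 := fun hx => (hUlt _ hx).1
  have amem : ∀ {x}, x ∈ uList → a x ∈ uList := fun hx => (ha _ hx).1
  have aspec : ∀ {x}, x ∈ uList → w * ψ x * w⁻¹ = ψ (a x) := fun hx => (ha _ hx).2
  have umul : ∀ {x y}, x ∈ uList → y ∈ uList → mC x y ∈ uList := fun hx hy => (hU.2 _ hx).2.2 _ hy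
  have ahom : ∀ {x y}, x ∈ uList → y ∈ uList → a (mC x y) = mC (a x) (a y) := by
    intro x y hx hy
    refine M.inj _ (alt (amem (umul hx hy))) _ (alt (umul (amem hx) (amem hy))) ?_
    rw [← aspec (umul hx hy), ← M.mul _ (alt hx) _ (alt hy), ← M.mul _ (alt (amem hx)) _ (alt (amem hy)),
      ← aspec hx, ← aspec hy]
    group
  have hgi : ∀ i < 3, uGens.getD i 0 ∈ uList := fun i hi => hgens _ (by
    rw [List.getD_eq_getElem _ _ (by rw [hglen]; exact hi)]; exact List.getElem_mem _)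
  set im : List ℕ := [a (uGens.getD 0 0), a (uGens.getD 1 0), a (uGens.getD 2 0)] with him
  have himg : ∀ i < 3, im.getD i 0 = a (uGens.getD i 0) := by
    intro i hi; interval_cases i <;> rfl
  have a0 : a 0 = 0 := by
    refine M.inj _ (alt (amem hU.1)) 0 (by norm_num) ?_
    rw [← aspec hU.1, M.one]; group
  have fold : ∀ l : List ℕ, (∀ i ∈ l, i < 3) → ∀ r ∈ uList,
      l.foldl (fun r i => mC r (uGens.getD i 0)) r ∈ uList ∧
      l.foldl (fun r i => mC r (im.getD i 0)) (a r) = a (l.foldl (fun r i => mC r (uGens.getD i 0)) r) := by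
    intro l
    induction l with
    | nil => exact fun _ r hr => ⟨hr, rfl⟩
    | cons i l ih =>
      intro hl r hr
      have hi := hl i List.mem_cons_self
      simp only [List.foldl_cons]
      rw [himg i hi, ← ahom hr (hgi i hi)]
      exact ih (fun j hj => hl j (List.mem_cons_of_mem _ hj)) _ (umul hr (hgi i hi))
  have hext : ∀ x ∈ uList, extU im x = a x := by
    intro x hx
    obtain ⟨e, hl⟩ := uWords_spec x hx
    have h := (fold _ hl 0 hU.1).2
    rw [a0, e] at h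
    exact h
  have a3 : ∀ {x}, x ∈ uList → a (a (a x)) = x := fun {x} hx => by
    refine M.inj _ (alt (amem (amem (amem hx)))) x (alt hx) ?_
    rw [← aspec (amem (amem hx)), ← aspec (amem hx), ← aspec hx]
    calc w * (w * (w * ψ x * w⁻¹) * w⁻¹) * w⁻¹ = w * w * w * ψ x * (w * w * w)⁻¹ := by group
      _ = _ := by rw [w3, one_mul, inv_one, mul_one]
  have sq_iff : ∀ {x}, x ∈ uList → (mC (a x) (a x) = 0 ↔ mC x x = 0) := fun {x} hx => by
    rw [← ahom hx hx]
    constructor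
    · intro h
      have := a3 (umul hx hx)
      rw [h, a0, a0] at this
      exact this.symm
    · intro h; rw [h, a0]
  have hvalid : validAut im = true := by
    simp only [validAut, Bool.and_eq_true, bne_iff_ne, beq_iff_eq, List.all_eq_true, List.mem_range]
    refine ⟨⟨?_, ?_, ?_, ?_⟩, fun x hx i hi => ?_, fun x hx => ?_⟩
    · rw [himg 0 (by norm_num)]; exact fun h => g0 ((sq_iff (hgi 0 (by norm_num))).1 h)
    · rw [himg 1 (by norm_num)]; exact (sq_iff (hgi 1 (by norm_num))).2 g1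
    · rw [himg 2 (by norm_num)]; exact fun h => g2 ((sq_iff (hgi 2 (by norm_num))).1 h)
    · rw [hext _ hzU]
      exact M.inj _ (alt (amem hzU)) pC (by norm_num) (by rw [← aspec hzU, M.at_z, w1])
    · rw [hext _ (umul hx (hgi i hi)), hext _ hx, himg i hi, ahom hx (hgi i hi)]
    · rw [hext _ hx, hext _ (amem hx), hext _ (amem (amem hx)), a3 hx]
  -- the conjugate by the involution
  set t := ψ sC with ht
  have tt : t * t = 1 := by rw [ht, M.mul _ hs _ hs, hss, M.one]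
  have ti : t⁻¹ = t := inv_eq_of_mul_eq_one_right tt
  have tz : t * z * t = z := by rw [M.comm_z hs, mul_assoc, tt, mul_one]
  have tp : t * ψ pC * t = ψ (mC zC pC) := by
    have h := M.conj hs (show pC < 192 by norm_num); rw [hconjs, ← ht, ti] at h; exact h
  have tzp : t * ψ (mC zC pC) * t = ψ pC := by
    calc t * ψ (mC zC pC) * t = t * t * ψ pC * (t * t) := by rw [← tp]; group
      _ = _ := by rw [tt, one_mul, mul_one]
  set q := t * w * t * w with hq
  have qfix : ∀ {x y : G}, t * (w * (t * (w * x * w⁻¹) * t) * w⁻¹) * t = y → q * x * q⁻¹ = y := by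
    intro x y h
    rw [← h, hq, mul_inv_rev, mul_inv_rev, mul_inv_rev, ti]
    group
  have q1 : q * z = z * q := mul_inv_eq_iff_eq_mul.1 (qfix (by rw [w1, tp, w4, tz]))
  have q2 : q * ψ pC = ψ pC * q := mul_inv_eq_iff_eq_mul.1 (qfix (by rw [w2, tzp, w2, tzp]))
  obtain ⟨f, hf, ef⟩ := M.mem_uList q1 q2
  have hw2 : w * w = w⁻¹ := by
    refine eq_inv_of_mul_eq_one_left ?_
    exact w3
  have efw : ψ f * w⁻¹ = t * w * t := by rw [ef, hq]; group
  have hflip : flipOK im f = true := by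
    simp only [flipOK, Bool.and_eq_true, beq_iff_eq, List.all_eq_true]
    refine ⟨?_, ?_, fun x hx => ?_⟩
    · rw [hext f hf]
      refine M.inj _ (conjC_lt hs (alt hf)) _ (alt (amem hf)) ?_
      rw [← M.conj hs (alt hf), ← aspec hf, ef, hq, ← ht, ti]
      calc t * (t * w * t * w) * t = t * t * w * t * w * t := by group
        _ = _ := by rw [tt, one_mul]; group
    · rw [hext f hf, hext _ (amem hf)]
      refine M.inj _ (mC_lt _ (mC_lt _ (alt hf) _ (alt (amem (amem hf)))) _ (alt (amem hf))) 0 (by norm_num) ?_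
      rw [← M.mul _ (mC_lt _ (alt hf) _ (alt (amem (amem hf)))) _ (alt (amem hf)),
        ← M.mul _ (alt hf) _ (alt (amem (amem hf))), ← aspec (amem hf), ← aspec hf, M.one]
      calc ψ f * (w * (w * ψ f * w⁻¹) * w⁻¹) * (w * ψ f * w⁻¹)
          = ψ f * (w * w) * ψ f * w⁻¹ * (ψ f * w⁻¹) := by group
        _ = ψ f * w⁻¹ * (ψ f * w⁻¹) * (ψ f * w⁻¹) := by rw [hw2]; group
        _ = t * w * (t * t) * w * (t * t) * w * t := by rw [efw]; group
        _ = t * (w * w * w) * t := by rw [tt]; group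
        _ = 1 := by rw [w3, mul_one, tt]
    · rw [hext _ (hsU x hx), hext x hx, hext _ (amem hx)]
      refine M.inj _ (conjC_lt hs (alt (amem (hsU x hx)))) _ (conjC_lt (alt hf) (alt (amem (amem hx)))) ?_
      rw [← M.conj hs (alt (amem (hsU x hx))), ← M.conj (alt hf) (alt (amem (amem hx))), ← aspec (hsU x hx),
        ← M.conj hs (alt hx), ← aspec (amem hx), ← aspec hx, ← ht, ti]
      calc t * (w * (t * ψ x * t) * w⁻¹) * t = t * w * t * ψ x * (t * w * t)⁻¹ := by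
            rw [mul_inv_rev, mul_inv_rev, ti]; group
        _ = ψ f * w⁻¹ * ψ x * (ψ f * w⁻¹)⁻¹ := by rw [efw]
        _ = ψ f * ((w * w) * ψ x * (w * w)⁻¹) * (ψ f)⁻¹ := by rw [hw2]; group
        _ = _ := by group
  have himU : ∀ i < 3, im.getD i 0 ∈ uList := fun i hi => by rw [himg i hi]; exact amem (hgi i hi)
  have htri : tripleOK im = true :=
    List.all_eq_true.1 (List.all_eq_true.1 (List.all_eq_true.1 triple_all _ (himU 0 (by norm_num))) _
      (himU 1 (by norm_num))) _ (himU 2 (by norm_num))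
  have hany : (uList.any fun f => flipOK im f) = true := List.any_eq_true.2 ⟨f, hf, hflip⟩
  simp only [tripleOK, hvalid, hany, Bool.true_and, Bool.not_true, Bool.false_or, Bool.or_eq_true,
    List.contains_iff_mem] at htri
  rcases htri with hB | hA
  · left
    have hm := List.all_eq_true.1 move_all im hB
    simp only [moveOK, Bool.and_eq_true, List.all_eq_true, Bool.or_eq_true, Bool.not_eq_true',
      List.contains_iff_mem] at hm
    obtain ⟨hE, hR⟩ := hm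
    have hvF : vC ∈ fList ∧ rList.contains vC = true := by decide +kernel
    rcases hR vC hvF.1 with h | ⟨hS1, hS2⟩
    · rw [hvF.2] at h; exact absurd h (by decide)
    have hv := eList_sub.2 vC hvF.1
    refine ⟨w, w1, fun x hx => ⟨_, hE x hx, ?_⟩, ⟨_, hS1, ?_⟩, _, hS2, ?_⟩
    · rw [hext x (eList_sub.1 x hx)]; exact aspec (eList_sub.1 x hx)
    · rw [hext _ hv]; exact aspec hv
    · rw [hext _ hv, hext _ (amem hv), ← aspec (amem hv), ← aspec hv]
      calc w⁻¹ * ψ vC * w = w * w * ψ vC * (w * w)⁻¹ := by rw [hw2]; group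
        _ = _ := by group
  right
  have hc := List.all_eq_true.1 (List.all_eq_true.1 cover_all im hA) f hf
  simp only [hflip, Bool.not_true, Bool.false_or, List.any_eq_true, Bool.and_eq_true, beq_iff_eq] at hc
  obtain ⟨e, he, hef, q, hq', rfl', hqs⟩ := hc
  obtain ⟨im', s, i, eps, f₂, c⟩ := q
  have hr := List.all_eq_true.1 red_all _ hq'
  simp only [redOK, Bool.and_eq_true, decide_eq_true_eq, beq_iff_eq, List.all_eq_true, List.contains_iff_mem] at hr
  simp only at rfl' hqs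
  subst rfl' hqs
  obtain ⟨⟨hi, heps, hf₂, hc⟩, hcfix, hms, htab⟩ := hr
  have hie : invC e ∈ uList := (hU.2 e he).2.1
  rw [hext _ hie, hext _ (amem hie)] at hef
  -- the element inverting
  have hes : ψ (mC e sC) * w * (ψ (mC e sC))⁻¹ = w⁻¹ := by
    have hf' : ψ (mC (mC e f) (a (a (invC e)))) = 1 := by rw [hef, M.one]
    rw [← M.mul _ (mC_lt _ (alt he) _ (alt hf)) _ (alt (amem (amem hie))), ← M.mul _ (alt he) _ (alt hf),
      ← aspec (amem hie), ← aspec hie, ← M.inv (alt he)] at hf'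
    rw [← M.mul _ (alt he) _ hs, ← ht, mul_inv_rev, ti]
    calc ψ e * t * w * (t * (ψ e)⁻¹) = ψ e * (t * w * t) * (ψ e)⁻¹ := by group
      _ = ψ e * ψ f * w⁻¹ * (ψ e)⁻¹ := by rw [← efw]; group
      _ = ψ e * ψ f * ((w * w) * (ψ e)⁻¹ * (w * w)⁻¹) * w⁻¹ := by rw [hw2]; group
      _ = ψ e * ψ f * (w * (w * (ψ e)⁻¹ * w⁻¹) * w⁻¹) * w⁻¹ := by group
      _ = _ := by rw [hf', one_mul]
  set F := ψ f₂ with hF
  set v := w ^ eps with hv
  have v3 : v * v * v = 1 := by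
    rcases heps with rfl | rfl
    · rw [hv, pow_one, w3]
    · rw [hv, pow_two, hw2, show w⁻¹ * w⁻¹ * w⁻¹ = (w * w * w)⁻¹ by group, w3, inv_one]
  have vflip : ψ (mC e sC) * v * (ψ (mC e sC))⁻¹ = v⁻¹ := by
    rw [hv, ← conj_pow, hes, inv_pow]
  set a1 := fun x => conjC f₂ (if eps = 1 then extU im (conjC (invC f₂) x)
    else extU im (extU im (conjC (invC f₂) x))) with ha1
  have uconj : ∀ {g x}, g ∈ uList → x ∈ uList → conjC g x ∈ uList := fun hg hx =>
    umul (umul hg hx) (hU.2 _ hg).2.1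
  have act1 : ∀ x ∈ uList, F * v * F⁻¹ * ψ x * (F * v * F⁻¹)⁻¹ = ψ (a1 x) ∧ a1 x ∈ uList := by
    intro x hx
    have hix : conjC (invC f₂) x ∈ uList := uconj (hU.2 f₂ hf₂).2.1 hx
    have e1 : ψ (conjC (invC f₂) x) = F⁻¹ * ψ x * F := by
      rw [← M.conj (invC_spec _ (alt hf₂)).1 (alt hx), ← M.inv (alt hf₂), inv_inv, hF]
    have key : v * ψ (conjC (invC f₂) x) * v⁻¹ = ψ (if eps = 1 then extU im (conjC (invC f₂) x)
        else extU im (extU im (conjC (invC f₂) x))) ∧ (if eps = 1 then extU im (conjC (invC f₂) x)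
        else extU im (extU im (conjC (invC f₂) x))) ∈ uList := by
      rcases heps with rfl | rfl
      · rw [hv, pow_one, if_pos rfl, hext _ hix]
        exact ⟨aspec hix, amem hix⟩
      · rw [hv, pow_two, if_neg (by decide : ¬(2 : ℕ) = 1), hext _ hix, hext _ (amem hix)]
        refine ⟨?_, amem (amem hix)⟩
        rw [← aspec (amem hix), ← aspec hix]; group
    refine ⟨?_, uconj hf₂ key.2⟩
    calc F * v * F⁻¹ * ψ x * (F * v * F⁻¹)⁻¹ = F * (v * (F⁻¹ * ψ x * F) * v⁻¹) * F⁻¹ := by group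
      _ = _ := by rw [← e1, key.1, hF, M.conj (alt hf₂) (alt key.2)]
  have hcU : c ∈ uList := hc
  have hwc : F * v * F⁻¹ * ψ c * (F * v * F⁻¹)⁻¹ = ψ c := by
    rw [(act1 c hcU).1]; exact congrArg ψ hcfix
  obtain ⟨hb, -, -⟩ := relabel_facts i hi
  have hl : mC (conjC f₂ (mC e sC)) c < 192 := mC_lt _ (conjC_lt (alt hf₂) (mC_lt _ (alt he) _ hs)) _ (alt hcU)
  have esC : (relabelInv.getD i []).getD sC 0 = mC (conjC f₂ (mC e sC)) c := by
    have h := (hb _ hl).2.2.1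
    rwa [hms] at h
  refine ⟨fun n => ψ ((relabelInv.getD i []).getD n 0), F * v * F⁻¹, M.relabelled hi, ?_, fun x hx => ?_, ?_⟩
  · rw [show F * v * F⁻¹ * (F * v * F⁻¹) * (F * v * F⁻¹) = F * (v * v * v) * F⁻¹ by group, v3]; group
  · have hy := hrel i hi x hx
    show F * v * F⁻¹ * ψ ((relabelInv.getD i []).getD x 0) * (F * v * F⁻¹)⁻¹ = _
    obtain ⟨h1, h2⟩ := act1 _ hy
    rw [h1]
    have h3 := htab _ hy
    rw [(hb x (alt hx)).2.2.2] at h3
    show ψ _ = ψ ((relabelInv.getD i []).getD (tabA.getD x 0) 0)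
    rw [h3.2, (hb _ (alt h2)).2.2.1]
  · show ψ ((relabelInv.getD i []).getD sC 0) * (F * v * F⁻¹) * (ψ ((relabelInv.getD i []).getD sC 0))⁻¹ = _
    have hsl := mC_lt _ (alt he) _ hs
    rw [esC, ← M.mul _ (conjC_lt (alt hf₂) hsl) _ (alt hcU), ← M.conj (alt hf₂) hsl, ← hF]
    have hc' : ψ c * (F * v * F⁻¹) * (ψ c)⁻¹ = F * v * F⁻¹ := by
      calc ψ c * (F * v * F⁻¹) * (ψ c)⁻¹
          = F * v * F⁻¹ * ψ c * (F * v * F⁻¹)⁻¹ * (F * v * F⁻¹) * (ψ c)⁻¹ := by rw [hwc]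
        _ = F * v * F⁻¹ := by group
    calc F * ψ (mC e sC) * F⁻¹ * ψ c * (F * v * F⁻¹) * (F * ψ (mC e sC) * F⁻¹ * ψ c)⁻¹
        = F * ψ (mC e sC) * F⁻¹ * (ψ c * (F * v * F⁻¹) * (ψ c)⁻¹) * (F * ψ (mC e sC) * F⁻¹)⁻¹ := by group
      _ = F * (ψ (mC e sC) * v * (ψ (mC e sC))⁻¹) * F⁻¹ := by rw [hc']; group
      _ = _ := by rw [vflip]; group

end Model

end CfsgLib.Spor.MTwelveCent
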